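import Groth.Agent.GrLC.K763.Basic
import Groth.Agent.Ega4B.DimFT
import Mathlib.RingTheory.Ideal.Height
import Mathlib.RingTheory.GradedAlgebra.Radical
import Mathlib.RingTheory.FiniteType

/-!
# Noetherian positively graded rings over a field: finite type, dimension
-/

set_option autoImplicit false
set_option linter.unusedSectionVars false
set_option linter.unusedVariables false
universe u

open DirectSum K763.Basic GrLC

namespace K763.GrField

variable {R : Type u} [CommRing R] (𝒜 : ℤ → AddSubgroup R) [GradedRing 𝒜]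
variable (hpos : ∀ n : ℤ, n < 0 → 𝒜 n = ⊥) (h0 : IsField (deg0 𝒜))
variable {m : Ideal R} (hm : m = Ideal.span (⋃ n ∈ Set.Ioi (0 : ℤ), (𝒜 n : Set R)))

include hm in
lemma mem_of_pos {n : ℤ} (hn : 0 < n) {x : R} (hx : x ∈ 𝒜 n) : x ∈ m := by
  rw [hm]
  refine Ideal.subset_span ?_
  simp only [Set.mem_iUnion]
  exact ⟨n, hn, hx⟩

include hpos in
lemma decompose_neg (x : R) {n : ℤ} (hn : n < 0) : (decompose 𝒜 x n : R) = 0 :=
  (AddSubgroup.eq_bot_iff_forall _).1 (hpos n hn) _ (decompose 𝒜 x n).2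

include hpos hm in
lemma sub_zero_mem (x : R) : x - (decompose 𝒜 x 0 : R) ∈ m := by
  classical
  by_cases h : (0 : ℤ) ∈ (decompose 𝒜 x).support
  · have h1 := sum_support_decompose 𝒜 x
    rw [← Finset.add_sum_erase _ _ h] at h1
    rw [sub_eq_of_eq_add' h1.symm]
    refine sum_mem fun i hi => ?_
    rcases lt_or_gt_of_ne (Finset.ne_of_mem_erase hi) with h2 | h2
    · rw [decompose_neg 𝒜 hpos x h2]; exact zero_mem _
    · exact mem_of_pos 𝒜 hm h2 (decompose 𝒜 x i).2
  · have h2 : (decompose 𝒜 x 0 : R) = 0 := by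
      simpa [DFinsupp.mem_support_iff] using h
    rw [h2, sub_zero, ← sum_support_decompose 𝒜 x]
    refine sum_mem fun i hi => ?_
    have hi0 : i ≠ 0 := fun e => h (e ▸ hi)
    rcases lt_or_gt_of_ne hi0 with h2 | h2
    · rw [decompose_neg 𝒜 hpos x h2]; exact zero_mem _
    · exact mem_of_pos 𝒜 hm h2 (decompose 𝒜 x i).2

include hpos hm in
/-- elements of `R_+` have no component of degree zero -/
lemma decompose_zero_eq_zero {x : R} (hx : x ∈ m) : (decompose 𝒜 x 0 : R) = 0 := by
  rw [hm] at hx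
  have key : ∀ (n : ℤ) (s : R), 0 < n → s ∈ 𝒜 n → ∀ r : R, (decompose 𝒜 (r * s) 0 : R) = 0 := by
    intro n s hn hs r
    rw [← smul_eq_mul, decompose_smul_right 𝒜 𝒜 hs, decompose_neg 𝒜 hpos r (by omega), zero_smul]
  induction hx using Submodule.span_induction with
  | mem x hx =>
    simp only [Set.mem_iUnion] at hx
    obtain ⟨n, hn, hx⟩ := hx
    have := key n x hn hx 1
    rwa [one_mul] at this
  | zero => rw [decompose_zero]; rfl
  | add x y _ _ hx hy => rw [decompose_add, DirectSum.add_apply, AddMemClass.coe_add, hx, hy, add_zero]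
  | smul r x hx' hx =>
    clear hx
    induction hx' using Submodule.span_induction generalizing r with
    | mem x hx =>
      simp only [Set.mem_iUnion] at hx
      obtain ⟨n, hn, hx⟩ := hx
      exact key n x hn hx r
    | zero => rw [smul_zero, decompose_zero]; rfl
    | add x y _ _ hx hy =>
      rw [smul_add, decompose_add, DirectSum.add_apply, AddMemClass.coe_add, hx, hy, add_zero]
    | smul s x _ hx => rw [smul_smul]; exact hx (r * s)

include h0 in
lemma nontrivial : Nontrivial R := by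
  have : Nontrivial (deg0 𝒜) := h0.nontrivial
  exact (deg0 𝒜).subtype_injective.nontrivial

include hpos h0 hm in
lemma ne_top : m ≠ ⊤ := by
  intro h
  have := nontrivial 𝒜 h0
  have h1 : (1 : R) ∈ m := h ▸ trivial
  have h2 := decompose_zero_eq_zero 𝒜 hpos hm h1
  rw [decompose_of_mem_same 𝒜 SetLike.GradedOne.one_mem] at h2
  exact one_ne_zero h2

include h0 in
lemma isUnit_of_mem {x : R} (hx : x ∈ 𝒜 0) (hx0 : x ≠ 0) : IsUnit x := by
  obtain ⟨y, hy⟩ := h0.mul_inv_cancel (a := (⟨x, hx⟩ : deg0 𝒜))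
    (fun h => hx0 (congrArg Subtype.val h))
  exact IsUnit.of_mul_eq_one (y : R) (congrArg Subtype.val hy)

include hpos h0 hm in
/-- proper homogeneous ideals are contained in `R_+` -/
lemma le_of_isHomogeneous {I : Ideal R} (hI : I.IsHomogeneous 𝒜) (hne : I ≠ ⊤) : I ≤ m := by
  intro x hx
  have h1 : (decompose 𝒜 x 0 : R) ∈ I := hI 0 hx
  have h2 : (decompose 𝒜 x 0 : R) = 0 := by
    by_contra h
    exact hne (I.eq_top_of_isUnit_mem h1 (isUnit_of_mem 𝒜 h0 (decompose 𝒜 x 0).2 h))
  have := sub_zero_mem 𝒜 hpos hm x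
  rwa [h2, sub_zero] at this

include hpos h0 hm in
lemma isMaximal : m.IsMaximal := by
  rw [Ideal.isMaximal_iff]
  refine ⟨(Ideal.ne_top_iff_one _).1 (ne_top 𝒜 hpos h0 hm), fun J x hJ hx hxJ => ?_⟩
  have h1 := sub_zero_mem 𝒜 hpos hm x
  have h2 : (decompose 𝒜 x 0 : R) ∈ J := by
    have := sub_mem hxJ (hJ h1)
    rwa [sub_sub_cancel] at this
  have h3 : (decompose 𝒜 x 0 : R) ≠ 0 := by
    intro h
    rw [h, sub_zero] at h1
    exact hx h1
  have := J.eq_top_of_isUnit_mem h2 (isUnit_of_mem 𝒜 h0 (decompose 𝒜 x 0).2 h3)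
  rw [this]; trivial

section FT

variable [IsNoetherianRing R]

include hpos in
/-- `R` is of finite type over `R_0`. -/
theorem finiteType : Algebra.FiniteType (deg0 𝒜) R := by
  classical
  set m : Ideal R := Ideal.span (⋃ n ∈ Set.Ioi (0 : ℤ), (𝒜 n : Set R)) with hm
  have hfg : (Submodule.span R (⋃ n ∈ Set.Ioi (0 : ℤ), (𝒜 n : Set R))).FG :=
    IsNoetherian.noetherian _
  obtain ⟨s, hs1, hs2⟩ := (Submodule.fg_span_iff_fg_span_finset_subset _).1 hfg
  let A : Subalgebra (deg0 𝒜) R := Algebra.adjoin (deg0 𝒜) (s : Set R)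
  have hs3 : ∀ f ∈ s, ∃ n : ℤ, 0 < n ∧ f ∈ 𝒜 n := by
    intro f hf
    have := hs1 hf
    simp only [Set.mem_iUnion] at this
    obtain ⟨n, hn, h⟩ := this
    exact ⟨n, hn, h⟩
  have key : ∀ (N : ℕ) (x : R), x ∈ 𝒜 (N : ℤ) → x ∈ A := by
    intro N
    induction N using Nat.strong_induction_on with
    | _ N ih =>
      intro x hx
      rcases Nat.eq_zero_or_pos N with rfl | hN
      · exact A.algebraMap_mem (⟨x, hx⟩ : deg0 𝒜)
      · have hxm : x ∈ Submodule.span R (s : Set R) := by
          rw [← hs2]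
          exact mem_of_pos 𝒜 hm (n := (N : ℤ)) (by exact_mod_cast hN) hx
        have h1 : ∀ y ∈ Submodule.span R (s : Set R), (decompose 𝒜 y (N : ℤ) : R) ∈ A := by
          intro y hy
          have h2 : ∀ f ∈ s, ∀ r : R, (decompose 𝒜 (r • f) (N : ℤ) : R) ∈ A := by
            intro f hf r
            obtain ⟨n, hn, hfn⟩ := hs3 f hf
            rw [decompose_smul_right 𝒜 𝒜 hfn, smul_eq_mul]
            refine mul_mem ?_ (Algebra.subset_adjoin hf)
            by_cases hNn : (N : ℤ) - n < 0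
            · rw [decompose_neg 𝒜 hpos r hNn]; exact zero_mem _
            · obtain ⟨M, hM⟩ := Int.eq_ofNat_of_zero_le (not_lt.1 hNn)
              have h3 := (decompose 𝒜 r ((N : ℤ) - n)).2
              rw [hM] at h3 ⊢
              exact ih M (by omega) _ h3
          induction hy using Submodule.span_induction with
          | mem y hy =>
            have := h2 y hy 1
            rwa [one_smul] at this
          | zero => rw [decompose_zero]; exact zero_mem _
          | add x y _ _ hx hy =>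
            rw [decompose_add, DirectSum.add_apply, AddMemClass.coe_add]; exact add_mem hx hy
          | smul r y hy' hy =>
            clear hy
            induction hy' using Submodule.span_induction generalizing r with
            | mem y hy => exact h2 y hy r
            | zero => rw [smul_zero, decompose_zero]; exact zero_mem _
            | add x y _ _ hx hy =>
              rw [smul_add, decompose_add, DirectSum.add_apply, AddMemClass.coe_add]
              exact add_mem (hx r) (hy r)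
            | smul t y _ hy => rw [smul_smul]; exact hy (r * t)
        have h2 := h1 x hxm
        rwa [decompose_of_mem_same 𝒜 hx] at h2
  refine ⟨⟨s, ?_⟩⟩
  rw [eq_top_iff]
  intro x _
  change x ∈ A
  rw [← sum_support_decompose 𝒜 x]
  refine sum_mem fun n _ => ?_
  by_cases hn : n < 0
  · rw [decompose_neg 𝒜 hpos x hn]; exact zero_mem _
  · obtain ⟨N, hN⟩ := Int.eq_ofNat_of_zero_le (not_lt.1 hn)
    have h3 := (decompose 𝒜 x n).2
    rw [hN] at h3 ⊢
    exact key N _ h3

/-- minimal primes are homogeneous -/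
lemma isHomogeneous_of_mem_minimalPrimes {p : Ideal R} (hp : p ∈ minimalPrimes R) :
    p.IsHomogeneous 𝒜 := by
  have hpp : p.IsPrime := hp.1.1
  have h1 : (p.homogeneousCore 𝒜).toIdeal.IsPrime := Ideal.IsPrime.homogeneousCore hpp
  have h2 : (p.homogeneousCore 𝒜).toIdeal ≤ p := Ideal.toIdeal_homogeneousCore_le 𝒜 p
  have h3 : p ≤ (p.homogeneousCore 𝒜).toIdeal := hp.2 ⟨h1, bot_le⟩ h2
  rw [← le_antisymm h2 h3]
  exact (p.homogeneousCore 𝒜).isHomogeneous

include hpos h0 hm in
lemma minimalPrimes_le {p : Ideal R} (hp : p ∈ minimalPrimes R) : p ≤ m :=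
  le_of_isHomogeneous 𝒜 hpos h0 hm (isHomogeneous_of_mem_minimalPrimes 𝒜 hp) hp.1.1.ne_top

end FT

section Dim

/-- A ring of dimension at least `n` has a component of dimension at least `n`. -/
theorem exists_minimalPrime_le_dim (B : Type u) [CommRing B] (n : ℕ)
    (hn : (n : WithBot ℕ∞) ≤ ringKrullDim B) :
    ∃ p ∈ minimalPrimes B, (n : WithBot ℕ∞) ≤ ringKrullDim (B ⧸ p) := by
  obtain ⟨l, hl⟩ := Order.le_krullDim_iff.1 hn
  obtain ⟨q, hq, hql⟩ := Ideal.exists_minimalPrimes_le (J := l.head.asIdeal) bot_le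
  refine ⟨q, hq, ?_⟩
  rw [ringKrullDim_quotient]
  let l' : LTSeries (PrimeSpectrum.zeroLocus (R := B) q) :=
    { length := l.length
      toFun := fun i => ⟨l i, fun x hx => (LTSeries.head_le l i) (hql hx)⟩
      step := fun i => l.step i }
  have := Order.LTSeries.length_le_krullDim l'
  rw [← hl]
  exact this

theorem height_quotient_le {B : Type u} [CommRing B] (q : Ideal B) (p : Ideal (B ⧸ q)) [hp : p.IsPrime] :
    p.height ≤ (p.comap (Ideal.Quotient.mk q)).height := by
  have h1 : StrictMono (PrimeSpectrum.comap (Ideal.Quotient.mk q)) := by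
    intro x y hxy
    refine lt_of_le_of_ne (fun a ha => hxy.le ha) fun h => hxy.ne ?_
    ext a
    obtain ⟨a, rfl⟩ := Ideal.Quotient.mk_surjective a
    exact SetLike.ext_iff.1 (congrArg PrimeSpectrum.asIdeal h) a
  have h2 := Order.height_le_height_apply_of_strictMono _ h1 ⟨p, hp⟩
  rw [← PrimeSpectrum.height_eq_orderHeight, ← PrimeSpectrum.height_eq_orderHeight] at h2
  exact h2

variable [IsNoetherianRing R]

include hpos h0 hm in
/-- The dimension of a positively graded ring over a field is the height of `R_+`. -/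
theorem height_eq_ringKrullDim : (m.height : WithBot ℕ∞) = ringKrullDim R := by
  have hmax := isMaximal 𝒜 hpos h0 hm
  have hnt := nontrivial 𝒜 h0
  refine le_antisymm (Ideal.height_le_ringKrullDim_of_ne_top hmax.ne_top) ?_
  let _ : Field (deg0 𝒜) := h0.toField
  have hft : Algebra.FiniteType (deg0 𝒜) R := finiteType 𝒜 hpos
  have hfin : m.height ≠ ⊤ := Ideal.height_ne_top hmax.ne_top
  obtain ⟨h, hh⟩ := ENat.ne_top_iff_exists.1 hfin
  by_contra hlt
  rw [not_le, ← hh] at hlt
  have h1 : ((h + 1 : ℕ) : WithBot ℕ∞) ≤ ringKrullDim R := by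
    obtain ⟨y, hy⟩ := WithBot.ne_bot_iff_exists.1 (ne_bot_of_gt hlt)
    rw [← hy] at hlt ⊢
    have h2 : ((h : ℕ∞)) < y := WithBot.coe_lt_coe.1 hlt
    have h3 := Order.add_one_le_of_lt h2
    exact WithBot.coe_le_coe.2 (by exact_mod_cast h3)
  obtain ⟨q, hq, hqd⟩ := exists_minimalPrime_le_dim R (h + 1) h1
  have hqp : q.IsPrime := hq.1.1
  have hqm : q ≤ m := minimalPrimes_le 𝒜 hpos h0 hm hq
  have hmq : (m.map (Ideal.Quotient.mk q)).IsMaximal :=
    Ideal.IsMaximal.map_of_surjective_of_ker_le Ideal.Quotient.mk_surjective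
      (by rwa [Ideal.mk_ker])
  have h2 := Groth.Agent.Ega4B.DimFT.height_maximal (deg0 𝒜) (R ⧸ q) (m.map (Ideal.Quotient.mk q))
  have h3 := height_quotient_le q (m.map (Ideal.Quotient.mk q))
  rw [Ideal.comap_map_of_surjective _ Ideal.Quotient.mk_surjective] at h3
  have h4 : m ⊔ Ideal.comap (Ideal.Quotient.mk q) ⊥ = m := by
    rw [sup_eq_left, ← RingHom.ker_eq_comap_bot, Ideal.mk_ker]
    exact hqm
  rw [h4, ← hh] at h3
  rw [← h2] at hqd
  have h5 : ((h + 1 : ℕ) : WithBot ℕ∞) ≤ ((h : ℕ∞) : WithBot ℕ∞) :=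
    hqd.trans (WithBot.coe_le_coe.2 h3)
  have h6 : ((h + 1 : ℕ) : ℕ∞) ≤ (h : ℕ∞) := WithBot.coe_le_coe.1 h5
  have h7 : h + 1 ≤ h := by exact_mod_cast h6
  omega

end Dim

end K763.GrField
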