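import Groth.Agent.GrLC.K759.GrObj
import Mathlib.RingTheory.Noetherian.Basic

/-! # The torsion submodule of a graded module is homogeneous; the quotient by it -/

set_option autoImplicit false
set_option linter.unusedSectionVars false
universe u

open DirectSum GrLC

namespace K763.GamHom

variable {ι : Type} [AddCommGroup ι] [DecidableEq ι]
variable {R : Type u} [CommRing R] {σ : Type u} [SetLike σ R] [AddSubgroupClass σ R]
  {𝒜 : ι → σ} [GradedRing 𝒜]
variable {M : Type u} [AddCommGroup M] [Module R M] {τ : Type u} [SetLike τ M]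
  [AddSubgroupClass τ M] (ℳ : ι → τ) [DirectSum.Decomposition ℳ] [SetLike.GradedSMul 𝒜 ℳ]

lemma isHomogeneous_pow {I : Ideal R} (hI : I.IsHomogeneous 𝒜) (n : ℕ) :
    (I ^ n).IsHomogeneous 𝒜 := by
  induction n with
  | zero =>
    rw [pow_zero, Ideal.one_eq_top]
    exact fun _ _ _ => Submodule.mem_top
  | succ n ih => rw [pow_succ]; exact ih.mul hI

variable (a : HomogeneousIdeal 𝒜)

/-- If a homogeneous ideal kills `x` it kills the components of `x`. -/
lemma smul_cmp_eq_zero {I : Ideal R} (hI : I.IsHomogeneous 𝒜) {x : M} (hx : ∀ r ∈ I, r • x = 0)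
    (i : ι) : ∀ r ∈ I, r • K759.Gr.cmp ℳ i x = 0 := by
  intro r hr
  rw [← K759.Gr.sum_cmp 𝒜 r, Finset.sum_smul]
  refine Finset.sum_eq_zero fun j _ => ?_
  have h1 : K759.Gr.cmp 𝒜 j r ∈ I := hI j hr
  have h2 := K759.Gr.cmp_smul 𝒜 ℳ (K759.Gr.cmp_mem 𝒜 j r) i x
  rw [← h2, hx _ h1, map_zero]

lemma isHomogeneous_gam : (gam a.toIdeal M).IsHomogeneous ℳ := by
  rintro i x ⟨n, hn⟩
  exact ⟨n, smul_cmp_eq_zero ℳ (isHomogeneous_pow a.isHomogeneous n) hn i⟩

/-- The quotient `M / Γ_a(M)` as a graded module. -/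
noncomputable abbrev modGam (X : GMod.{u} 𝒜) : GMod.{u} 𝒜 :=
  K759.GrObj.quo 𝒜 X.gr (gam a.toIdeal X.carrier) (isHomogeneous_gam X.gr a)

section Quot

variable {R : Type u} [CommRing R] [IsNoetherianRing R] {M : Type u} [AddCommGroup M] [Module R M]

/-- an element all of whose multiples by a power of `a` are torsion is torsion -/
lemma mem_gam_of_smul_mem (a : Ideal R) {y : M} (n : ℕ) (h : ∀ r ∈ a ^ n, r • y ∈ gam a M) :
    y ∈ gam a M := by
  classical
  obtain ⟨s, hs⟩ := (IsNoetherian.noetherian (a ^ n) : (a ^ n).FG)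
  have hsa : ∀ r ∈ s, r ∈ a ^ n := fun r hr => by rw [← hs]; exact Ideal.subset_span hr
  have h1 : ∃ N : ℕ, ∀ r ∈ s, ∀ c ∈ a ^ N, c • r • y = 0 := by
    choose! k hk using fun r (hr : r ∈ s) => h r (hsa r hr)
    refine ⟨s.sup k, fun r hr c hc => hk r hr c ?_⟩
    exact Ideal.pow_le_pow_right (Finset.le_sup hr) hc
  obtain ⟨N, hN⟩ := h1
  have h2 : ∀ r ∈ a ^ n, ∀ c ∈ a ^ N, c • r • y = 0 := by
    intro r hr
    rw [← hs] at hr
    induction hr using Submodule.span_induction with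
    | mem r hr => exact hN r hr
    | zero => intro c _; rw [zero_smul, smul_zero]
    | add r s _ _ hr hs => intro c hc; rw [add_smul, smul_add, hr c hc, hs c hc, add_zero]
    | smul t r _ hr =>
      intro c hc
      rw [smul_eq_mul, mul_smul, smul_comm, hr c hc, smul_zero]
  refine ⟨N + n, fun t ht => ?_⟩
  rw [pow_add] at ht
  refine Submodule.mul_induction_on ht (fun c hc r hr => ?_) (fun x y hx hy => ?_)
  · rw [mul_smul]; exact h2 r hr c hc
  · rw [add_smul, hx, hy, add_zero]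

lemma gam_quotient_gam (a : Ideal R) : gam a (M ⧸ gam a M) = ⊥ := by
  rw [eq_bot_iff]
  rintro x ⟨n, hn⟩
  obtain ⟨y, rfl⟩ := (gam a M).mkQ_surjective x
  rw [Submodule.mem_bot, Submodule.mkQ_apply, Submodule.Quotient.mk_eq_zero]
  refine mem_gam_of_smul_mem a n fun r hr => ?_
  rw [← Submodule.Quotient.mk_eq_zero, ← Submodule.mkQ_apply, map_smul]
  exact hn r hr

end Quot

end K763.GamHom
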