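import Groth.Prelude.Def_GrLC

/-! # Graded local cohomology: pieces and scalar multiplication -/

set_option autoImplicit false
set_option linter.unusedSectionVars false
universe u

open GrLC

namespace K763.HGr

variable {ι : Type} [AddCommGroup ι] [DecidableEq ι]
variable {R : Type u} [CommRing R] {𝒜 : ι → AddSubgroup R} [GradedRing 𝒜]
variable {M : Type u} [AddCommGroup M] [Module R M] {ℳ : ι → AddSubgroup M}
  [DirectSum.Decomposition ℳ] [SetLike.GradedSMul 𝒜 ℳ] (E : StarInjRes 𝒜 ℳ)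
  (a : HomogeneousIdeal 𝒜) (i : ℕ)

lemma smul_mem {d g : ι} {r : R} (hr : r ∈ 𝒜 d) {x : E.H a i} (hx : x ∈ E.Hgr a i g) :
    r • x ∈ E.Hgr a i (d + g) := by
  obtain ⟨z, hz, rfl⟩ := hx
  refine ⟨r • z, ?_, map_smul (E.toH a i) r z⟩
  have h := SetLike.GradedSMul.smul_mem (A := 𝒜) (B := (E.X i).gr) hr hz
  rwa [vadd_eq_add] at h

instance gradedSMul : SetLike.GradedSMul 𝒜 (E.Hgr a i) where
  smul_mem {_ _ _ _} hr hx := smul_mem E a i hr hx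

lemma mem_Hgr_iff {g : ι} {x : E.H a i} : x ∈ E.Hgr a i g ↔ x ∈ E.Hcomp a i g := Iff.rfl

lemma Hgr_eq_bot_iff {g : ι} : E.Hgr a i g = ⊥ ↔ E.Hcomp a i g = ⊥ := by
  constructor
  · intro h
    rw [eq_bot_iff]
    intro x hx
    have : x ∈ E.Hgr a i g := hx
    rw [h] at this
    exact this
  · intro h
    rw [eq_bot_iff]
    intro x hx
    have : x ∈ E.Hcomp a i g := hx
    rw [h] at this
    exact this

section EndDeg

variable {N : Type u} [AddCommGroup N] (𝒩 : ℤ → AddSubgroup N)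

/-- above the end degree the pieces vanish -/
lemma eq_bot_of_endDeg_lt {a : ℤ} (h : endDeg 𝒩 ≤ ((a : WithTop ℤ) : WithBot (WithTop ℤ)))
    {n : ℤ} (hn : a < n) : 𝒩 n = ⊥ := by
  by_contra hne
  have h1 : ((n : WithTop ℤ) : WithBot (WithTop ℤ)) ≤ endDeg 𝒩 :=
    le_iSup₂_of_le n hne le_rfl
  have h2 := h1.trans h
  rw [WithBot.coe_le_coe, WithTop.coe_le_coe] at h2
  omega

lemma endDeg_le_iff {a : ℤ} : endDeg 𝒩 ≤ ((a : WithTop ℤ) : WithBot (WithTop ℤ)) ↔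
    ∀ n : ℤ, a < n → 𝒩 n = ⊥ := by
  refine ⟨fun h n hn => eq_bot_of_endDeg_lt 𝒩 h hn, fun h => ?_⟩
  refine iSup₂_le fun n hn => ?_
  rw [WithBot.coe_le_coe, WithTop.coe_le_coe]
  by_contra hlt
  exact hn (h n (by omega))

lemma ne_bot_of_endDeg_eq {a : ℤ} (h : endDeg 𝒩 = ((a : WithTop ℤ) : WithBot (WithTop ℤ))) :
    𝒩 a ≠ ⊥ := by
  intro hbot
  have h1 : endDeg 𝒩 ≤ (((a - 1 : ℤ) : WithTop ℤ) : WithBot (WithTop ℤ)) := by
    rw [endDeg_le_iff]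
    intro n hn
    by_cases h2 : n = a
    · rw [h2]; exact hbot
    · exact eq_bot_of_endDeg_lt 𝒩 h.le (by omega)
  rw [h, WithBot.coe_le_coe, WithTop.coe_le_coe] at h1
  omega

lemma endDeg_eq_iff {a : ℤ} : endDeg 𝒩 = ((a : WithTop ℤ) : WithBot (WithTop ℤ)) ↔
    𝒩 a ≠ ⊥ ∧ ∀ n : ℤ, a < n → 𝒩 n = ⊥ := by
  constructor
  · intro h
    exact ⟨ne_bot_of_endDeg_eq 𝒩 h, fun n hn => eq_bot_of_endDeg_lt 𝒩 h.le hn⟩
  · rintro ⟨h1, h2⟩
    refine le_antisymm ((endDeg_le_iff 𝒩).2 h2) ?_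
    exact le_iSup₂_of_le a h1 le_rfl

end EndDeg

end K763.HGr
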