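import Groth.Agent.GrLC.K763.GrField
import Groth.Agent.Localalg.DepthLC
import Groth.Agent.Localalg.LCRows
import Groth.Agent.Localalg.LCBasic
import Groth.Agent.GrLC.K761.Art
import Groth.Agent.Sga2.ExtLoc
import Groth.Prelude.Def_CAlg

/-!
# Cohen–Macaulay graded rings over a field: `H^i_m(R) = 0` for `i < dim R`
-/

set_option autoImplicit false
set_option linter.unusedSectionVars false
set_option linter.unusedVariables false
universe u

open DirectSum K763.Basic GrLC Groth.Agent.Localalg

namespace K763.CMvan

section Loc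

variable {R : Type u} [CommRing R]

/-- A power torsion module for a maximal ideal vanishes if its localization does. -/
lemma subsingleton_of_localized {m : Ideal R} [hm : m.IsMaximal] (N : Type u) [AddCommGroup N]
    [Module R N] (hN : ∀ x : N, ∃ k : ℕ, ∀ r ∈ m ^ k, r • x = 0)
    (h : Subsingleton (LocalizedModule m.primeCompl N)) : Subsingleton N := by
  refine subsingleton_of_forall_eq 0 fun x => ?_
  have h1 : LocalizedModule.mk x (1 : m.primeCompl) = LocalizedModule.mk 0 1 :=
    Subsingleton.elim _ _
  rw [LocalizedModule.mk_eq] at h1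
  obtain ⟨c, hc⟩ := h1
  simp only [one_smul, smul_zero] at hc
  obtain ⟨k, hk⟩ := hN x
  obtain ⟨u, hu⟩ := K761.Art.exists_inverse_mod_pow hm c.2 k
  have h2 := hk _ hu
  have h3 : (c : R) • x = 0 := hc
  rw [sub_smul, one_smul, mul_smul, h3, smul_zero, sub_zero] at h2
  exact h2

/-- Local cohomology at a maximal ideal is that of the localization, up to vanishing. -/
theorem subsingleton_H_iff_localization [IsNoetherianRing R] (m : Ideal R) [hm : m.IsMaximal]
    (M : Type u) [AddCommGroup M] [Module R M] (i : ℕ) :
    Subsingleton (LocCoh.H m i M) ↔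
      Subsingleton (LocCoh.H (IsLocalRing.maximalIdeal (Localization.AtPrime m)) i
        (LocalizedModule m.primeCompl M)) := by
  obtain ⟨e⟩ := LCRows.nonempty_localizationEquiv m m.primeCompl i M
  have h1 : m.map (algebraMap R (Localization.AtPrime m)) =
      IsLocalRing.maximalIdeal (Localization.AtPrime m) := Localization.AtPrime.map_eq_maximalIdeal
  have h2 : Subsingleton (LocCoh.H m i M) ↔ Subsingleton (LocalizedModule m.primeCompl
      (LocCoh.H m i M)) := by
    constructor
    · intro h
      exact IsLocalizedModule.subsingleton_of_subsingleton m.primeCompl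
        (LocalizedModule.mkLinearMap m.primeCompl (LocCoh.H m i M))
    · intro h
      exact subsingleton_of_localized _ (fun x => LCBasic.isPowerTorsion_H m i x) h
  rw [h2, ← h1]
  exact e.toEquiv.subsingleton_congr

end Loc

variable {R : Type u} [CommRing R] (𝒜 : ℤ → AddSubgroup R) [GradedRing 𝒜]
variable (hpos : ∀ n : ℤ, n < 0 → 𝒜 n = ⊥) (h0 : IsField (deg0 𝒜))
variable {m : Ideal R} (hm : m = Ideal.span (⋃ n ∈ Set.Ioi (0 : ℤ), (𝒜 n : Set R)))

include hpos h0 hm in
theorem ringKrullDim_localization [IsNoetherianRing R] [m.IsPrime] :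
    ringKrullDim (Localization.AtPrime m) = ringKrullDim R := by
  rw [IsLocalization.AtPrime.ringKrullDim_eq_height m, K763.GrField.height_eq_ringKrullDim 𝒜 hpos h0 hm]

include hpos h0 hm in
/-- `H^i_m(R) = 0` for `i < dim R`, for `R` Cohen–Macaulay. -/
theorem subsingleton_H [LocCoh.IsCohenMacaulayRing R] {n : ℕ} (hn : ringKrullDim R = n) {i : ℕ}
    (hi : i < n) : Subsingleton (LocCoh.H m i R) := by
  have hmax : m.IsMaximal := K763.GrField.isMaximal 𝒜 hpos h0 hm
  rw [subsingleton_H_iff_localization m R i]
  let e := Groth.Agent.Sga2.ExtLoc.ringEquiv (S := m.primeCompl)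
  have hCM : LocCoh.IsCohenMacaulayLocalRing (Localization.AtPrime m) :=
    LocCoh.IsCohenMacaulayRing.isCohenMacaulayLocalRing_localization m
  have h1 : LocCoh.depth (Localization.AtPrime m) (Localization.AtPrime m) = (n : ℕ∞) := by
    have h2 := hCM.supportDim_eq_depth
    rw [Module.supportDim_self_eq_ringKrullDim, ringKrullDim_localization 𝒜 hpos h0 hm, hn] at h2
    have h3 : (((n : ℕ∞) : WithBot ℕ∞)) = ((LocCoh.depth (Localization.AtPrime m)
      (Localization.AtPrime m) : ℕ∞) : WithBot ℕ∞) := h2
    exact (WithBot.coe_injective h3).symm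
  have h4 : Subsingleton (LocCoh.H (IsLocalRing.maximalIdeal (Localization.AtPrime m)) i
      (Localization.AtPrime m)) := by
    refine DepthLC.subsingleton_H_of_lt_idealDepth _ _ i ?_
    rw [show LocCoh.idealDepth (IsLocalRing.maximalIdeal (Localization.AtPrime m))
      (Localization.AtPrime m) = (n : ℕ∞) from h1]
    exact_mod_cast hi
  exact (LCBasic.Hequiv _ i e).toEquiv.subsingleton

end K763.CMvan
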