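import Groth.Agent.GrLC.K760.ExtLen
import Groth.Agent.GrLC.K760.Len
import Groth.Agent.LocCoh.K162.ExtVan
import Groth.Agent.GrLC.K763.CMvan

/-!
# The Bass number `μ_n(m, M)` is the dimension of the socle of `H^n_m(M)`

if `H^i_m(M) = 0` for `i < n` (`R` Noetherian, `m` maximal).
-/

set_option autoImplicit false
set_option linter.unusedSectionVars false
set_option linter.unusedVariables false
universe u

open GrLC

namespace K763.SocLC

variable {k : Type u} [Field k] {R : Type u} [CommRing R] [Algebra k R]

/-- length at `m` of a module killed by `m` -/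
theorem length_eq_finrank (m : Ideal R) [hm : m.IsMaximal]
    (hk : ∀ r : R, ∃ c : k, r - algebraMap k R c ∈ m) (W : Type u) [AddCommGroup W] [Module R W]
    [Module k W] [IsScalarTower k R W] [Module.Finite k W] (hW : ∀ a ∈ m, ∀ x : W, a • x = 0) :
    Module.length (Localization.AtPrime m) (LocalizedModule m.primeCompl W) =
      (Module.finrank k W : ℕ∞) := by
  let b := Module.finBasis k W
  have hb : K760.Len.LocBasis m.primeCompl m b := by
    refine ⟨fun i s hs => hW s hs _, fun y hy i => ?_, fun w => ⟨1, one_mem _, ?_⟩⟩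
    · choose c hc using fun i => hk (y i)
      have h1 : ∀ i, y i • b i = c i • b i := by
        intro i
        have h2 := hW _ (hc i) (b i)
        rw [sub_smul, algebraMap_smul, sub_eq_zero] at h2
        exact h2
      have h2 : ∑ i, c i • b i = 0 := by
        rw [Finsupp.linearCombination_apply, Finsupp.sum_fintype _ _ (by simp)] at hy
        simpa [h1] using hy
      have h3 : c i = 0 := Fintype.linearIndependent_iff.1 b.linearIndependent c h2 i
      have h4 := hc i
      rwa [h3, map_zero, sub_zero] at h4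
    · rw [one_smul]
      have h1 : w ∈ Submodule.span k (Set.range b) := by rw [b.span_eq]; trivial
      exact Submodule.span_le_restrictScalars k R _ h1
  rw [hb.length_eq]
  simp

/-- `Hom(R/m, H)` is the socle of `H` -/
noncomputable def homSoc (m : Ideal R) (H : Type u) [AddCommGroup H] [Module R H] (W : Submodule R H)
    (hW : ∀ x, x ∈ W ↔ ∀ a ∈ m, a • x = 0) : ((R ⧸ m) →ₗ[R] H) ≃ₗ[R] W where
  toFun f := ⟨f 1, (hW _).2 fun a ha => by
    have h1 : a • (1 : R ⧸ m) = 0 := by
      have h2 : a • (1 : R ⧸ m) = Ideal.Quotient.mk m a := by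
        rw [Algebra.smul_def, mul_one]; rfl
      rw [h2, Ideal.Quotient.eq_zero_iff_mem]; exact ha
    rw [← map_smul, h1, map_zero]⟩
  map_add' f g := rfl
  map_smul' r f := rfl
  invFun x := Submodule.liftQ m (LinearMap.toSpanSingleton R H x)
    (fun a ha => by
      rw [LinearMap.mem_ker, LinearMap.toSpanSingleton_apply]
      exact (hW _).1 x.2 a ha)
  left_inv f := by
    apply Submodule.linearMap_qext
    ext
    simp
  right_inv x := by
    apply Subtype.ext
    change Submodule.liftQ m (LinearMap.toSpanSingleton R H x) _ (Submodule.Quotient.mk 1) = _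
    rw [Submodule.liftQ_apply, LinearMap.toSpanSingleton_apply, one_smul]

/-- The Bass number at a maximal ideal is the dimension of the socle of the first nonvanishing local
cohomology. -/
theorem bassNum_eq [IsNoetherianRing R] (m : Ideal R) [hm : m.IsMaximal]
    (hk : ∀ r : R, ∃ c : k, r - algebraMap k R c ∈ m) (M : Type u) [AddCommGroup M] [Module R M]
    (n : ℕ) (h : ∀ i, i < n → Subsingleton (LocCoh.H m i M)) (H : Type u) [AddCommGroup H]
    [Module R H] (e : LocCoh.H m n M ≃ₗ[R] H) (W : Submodule R H)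
    (hW : ∀ x, x ∈ W ↔ ∀ a ∈ m, a • x = 0) [Module k W] [IsScalarTower k R W]
    [Module.Finite k W] :
    bassNum m M n = (Module.finrank k W : ℕ∞) := by
  rw [K760.ExtLen.bassNum_eq]
  have hk1 : ∀ a ∈ m ^ 1, ∀ x : R ⧸ m, a • x = 0 := by
    intro a ha x
    rw [pow_one] at ha
    obtain ⟨x, rfl⟩ := Ideal.Quotient.mk_surjective x
    rw [← Ideal.Quotient.mk_eq_mk, ← Submodule.Quotient.mk_smul]
    exact (Submodule.Quotient.mk_eq_zero m).2 (m.mul_mem_right _ ha)
  let e1 := K162.ExtVan.homEquiv m M n h (R ⧸ m) 1 hk1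
  let e2 : ((R ⧸ m) →ₗ[R] LocCoh.H m n M) ≃ₗ[R] ((R ⧸ m) →ₗ[R] H) := LinearEquiv.congrRight e
  let e3 := e1 ≪≫ₗ e2 ≪≫ₗ homSoc m H W hW
  rw [← length_eq_finrank m hk W (fun a ha x => Subtype.ext ((hW _).1 x.2 a ha))]
  exact (IsLocalizedModule.mapEquiv m.primeCompl (LocalizedModule.mkLinearMap m.primeCompl _)
    (LocalizedModule.mkLinearMap m.primeCompl _) (Localization.AtPrime m) e3).length_eq

end K763.SocLC
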