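import Groth.Agent.GrLC.K763.Basic
import Mathlib.RingTheory.Ideal.Span

/-!
# Standard graded rings: `R_{m+n} = R_m R_n`
-/

set_option autoImplicit false
set_option linter.unusedSectionVars false
universe u

open DirectSum K763.Basic

namespace K763.Std

variable {R : Type u} [CommRing R] (𝒜 : ℤ → AddSubgroup R) [GradedRing 𝒜]

/-- the additive subgroup generated by products -/
def pr (m n : ℤ) : AddSubgroup R :=
  AddSubgroup.closure (Set.image2 (fun a b => a * b) (𝒜 m : Set R) (𝒜 n : Set R))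

lemma mul_mem_pr {m n : ℤ} {a b : R} (ha : a ∈ 𝒜 m) (hb : b ∈ 𝒜 n) : a * b ∈ pr 𝒜 m n :=
  AddSubgroup.subset_closure (Set.mem_image2_of_mem ha hb)

lemma pr_le (m n : ℤ) : pr 𝒜 m n ≤ 𝒜 (m + n) := by
  rw [pr, AddSubgroup.closure_le]
  rintro _ ⟨a, ha, b, hb, rfl⟩
  exact SetLike.GradedMul.mul_mem ha hb

lemma mul_pr {l m n : ℤ} {a x : R} (ha : a ∈ 𝒜 l) (hx : x ∈ pr 𝒜 m n) :
    a * x ∈ pr 𝒜 (l + m) n := by
  induction hx using AddSubgroup.closure_induction with
  | mem x hx =>
    obtain ⟨b, hb, c, hc, rfl⟩ := hx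
    simp only
    rw [← mul_assoc]
    exact mul_mem_pr 𝒜 (SetLike.GradedMul.mul_mem ha hb) hc
  | zero => rw [mul_zero]; exact zero_mem _
  | add x y _ _ hx hy => rw [mul_add]; exact add_mem hx hy
  | neg x _ hx => rw [mul_neg]; exact neg_mem hx

/-- components of elements of the ideal generated by `R_1` -/
lemma decompose_mem_pr_one {x : R} (hx : x ∈ Ideal.span ((𝒜 1 : AddSubgroup R) : Set R)) (n : ℤ) :
    (DirectSum.decompose 𝒜 x (1 + n) : R) ∈ pr 𝒜 1 n := by
  induction hx using Submodule.span_induction with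
  | mem x hx =>
    by_cases h : (1 : ℤ) = 1 + n
    · have hn : n = 0 := by omega
      subst hn
      rw [show (1 : ℤ) + 0 = 1 by norm_num, DirectSum.decompose_of_mem_same 𝒜 hx]
      have := mul_mem_pr 𝒜 hx (SetLike.GradedOne.one_mem (A := 𝒜))
      rwa [mul_one] at this
    · rw [DirectSum.decompose_of_mem_ne 𝒜 hx h]; exact zero_mem _
  | zero => rw [DirectSum.decompose_zero]; exact zero_mem _
  | add x y _ _ hx hy =>
    rw [DirectSum.decompose_add, DirectSum.add_apply, AddMemClass.coe_add]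
    exact add_mem hx hy
  | smul r x hx' hx =>
    clear hx
    -- reduce to `x = y * s` sums again
    induction hx' using Submodule.span_induction generalizing r with
    | mem x hx =>
      rw [decompose_smul_right 𝒜 𝒜 hx, smul_eq_mul, mul_comm]
      have h := (DirectSum.decompose 𝒜 r (1 + n - 1)).2
      refine mul_mem_pr 𝒜 hx ?_
      convert h using 2
      ring
    | zero => rw [smul_zero, DirectSum.decompose_zero]; exact zero_mem _
    | add x y _ _ hx hy =>
      rw [smul_add, DirectSum.decompose_add, DirectSum.add_apply, AddMemClass.coe_add]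
      exact add_mem (hx r) (hy r)
    | smul s x _ hx => rw [smul_smul]; exact hx (r * s)

variable (hstd : Ideal.span (⋃ n ∈ Set.Ioi (0 : ℤ), (𝒜 n : Set R)) =
  Ideal.span ((𝒜 1 : AddSubgroup R) : Set R))

include hstd

lemma mem_pr_one {n : ℤ} (hn : 0 ≤ n) {x : R} (hx : x ∈ 𝒜 (1 + n)) : x ∈ pr 𝒜 1 n := by
  have h : x ∈ Ideal.span ((𝒜 1 : AddSubgroup R) : Set R) := by
    rw [← hstd]
    refine Ideal.subset_span ?_
    simp only [Set.mem_iUnion]
    exact ⟨1 + n, by simp only [Set.mem_Ioi]; omega, hx⟩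
  have h2 := decompose_mem_pr_one 𝒜 h n
  rwa [DirectSum.decompose_of_mem_same 𝒜 hx] at h2

/-- `R_{m+n} = R_m R_n` for `m, n ≥ 0` in a standard graded ring -/
lemma mem_pr {m n : ℤ} (hm : 0 ≤ m) (hn : 0 ≤ n) {x : R} (hx : x ∈ 𝒜 (m + n)) :
    x ∈ pr 𝒜 m n := by
  obtain ⟨m, rfl⟩ := Int.eq_ofNat_of_zero_le hm
  clear hm
  induction m generalizing x with
  | zero =>
    have h : x ∈ 𝒜 n := by simpa using hx
    have := mul_mem_pr 𝒜 (SetLike.GradedOne.one_mem (A := 𝒜)) h
    rwa [one_mul] at this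
  | succ m ih =>
    have h : x ∈ 𝒜 (1 + ((m : ℤ) + n)) := by
      convert hx using 2
      push_cast; ring
    have h2 := mem_pr_one 𝒜 hstd (by positivity) h
    rw [pr] at h2
    clear hx h
    induction h2 using AddSubgroup.closure_induction with
    | mem x hx' =>
      obtain ⟨b, hb, c, hc, rfl⟩ := hx'
      have := mul_pr 𝒜 hb (ih hc)
      rwa [show (1 : ℤ) + m = ((m + 1 : ℕ) : ℤ) by push_cast; ring] at this
    | zero => exact zero_mem _
    | add x y hx' hy' hx hy => exact add_mem hx hy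
    | neg x hx' hx => exact neg_mem hx

end K763.Std
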