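import Groth.Agent.GrLC.K763.Ver
import Mathlib.LinearAlgebra.Dimension.Finrank
import Mathlib.LinearAlgebra.Dimension.Constructions

/-!
# The irrelevant ideal of a Veronese subring, the degree zero subring
-/

set_option autoImplicit false
set_option linter.unusedSectionVars false
set_option linter.unusedVariables false
universe u

open DirectSum K963.Dec K763.Basic GrLC

namespace K763.Ver

variable {R : Type u} [CommRing R] {𝒜 : ℤ → AddSubgroup R} [GradedRing 𝒜]
variable {R' : Type u} [CommRing R'] {𝒜' : ℤ → AddSubgroup R'} [GradedRing 𝒜']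
variable {φ : R' →+* R} {q : ℕ}

/-- The irrelevant ideal of the Veronese subring generates the irrelevant ideal up to radical. -/
lemma Data.radical_eq (D : Data 𝒜 𝒜' φ q) {a : Ideal R} {a' : Ideal R'}
    (ha : a = Ideal.span (⋃ n ∈ Set.Ioi (0 : ℤ), (𝒜 n : Set R)))
    (ha' : a' = Ideal.span (⋃ n ∈ Set.Ioi (0 : ℤ), (𝒜' n : Set R'))) :
    (a'.map φ).radical = a.radical := by
  apply le_antisymm
  · refine Ideal.radical_mono ?_
    rw [Ideal.map_le_iff_le_comap, ha', Ideal.span_le]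
    intro r hr
    simp only [Set.mem_iUnion] at hr
    obtain ⟨n, hn, hr⟩ := hr
    rw [SetLike.mem_coe, Ideal.mem_comap, ha]
    refine Ideal.subset_span ?_
    simp only [Set.mem_iUnion]
    have hq : (0 : ℤ) < (q : ℤ) := by have := D.pos; positivity
    exact ⟨n * q, mul_pos hn hq, D.map_mem hr⟩
  · rw [← Ideal.radical_idem (a'.map φ)]
    refine Ideal.radical_mono ?_
    rw [ha, Ideal.span_le]
    intro r hr
    simp only [Set.mem_iUnion] at hr
    obtain ⟨n, hn, hr⟩ := hr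
    refine ⟨q, ?_⟩
    have h1 : r ^ q ∈ 𝒜 (n * q) := by
      have := SetLike.pow_mem_graded (A := 𝒜) q hr
      rwa [nsmul_eq_mul, mul_comm] at this
    obtain ⟨s, hs, e⟩ := D.exists_eq h1
    rw [← e]
    refine Ideal.mem_map_of_mem φ ?_
    rw [ha']
    refine Ideal.subset_span ?_
    simp only [Set.mem_iUnion]
    exact ⟨n, hn, hs⟩

lemma Data.map_deg0_mem (D : Data 𝒜 𝒜' φ q) (x : deg0 𝒜') : φ x ∈ deg0 𝒜 := by
  have h := D.map_mem (j := 0) (x := (x : R')) x.2
  rwa [zero_mul] at h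

/-- The isomorphism of degree zero subrings. -/
noncomputable def Data.deg0Equiv (D : Data 𝒜 𝒜' φ q) : deg0 𝒜' ≃+* deg0 𝒜 :=
  RingEquiv.ofBijective ((φ.comp (deg0 𝒜').subtype).codRestrict (deg0 𝒜) D.map_deg0_mem)
    ⟨fun x y h => Subtype.ext (D.inj (congrArg Subtype.val h)), fun y => by
      obtain ⟨x, hx, e⟩ := D.exists_eq (j := 0) (y := (y : R)) (by rw [zero_mul]; exact y.2)
      exact ⟨⟨x, hx⟩, Subtype.ext e⟩⟩

lemma Data.coe_deg0Equiv (D : Data 𝒜 𝒜' φ q) (x : deg0 𝒜') : (D.deg0Equiv x : R) = φ x := rfl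

/-- equality of dimensions from a semilinear injection -/
lemma Data.finrank_eq (D : Data 𝒜 𝒜' φ q) {H : Type u} [AddCommGroup H] [Module R H]
    {H' : Type u} [AddCommGroup H'] [Module R' H'] (Ψ : H' →ₛₗ[φ] H) (hΨ : Function.Injective Ψ)
    (P : Submodule (deg0 𝒜) H) (P' : Submodule (deg0 𝒜') H')
    (h : ∀ y, y ∈ P ↔ ∃ x ∈ P', Ψ x = y) :
    Module.finrank (deg0 𝒜') P' = Module.finrank (deg0 𝒜) P := by
  let f : P' →+ P :=
    { toFun := fun x => ⟨Ψ x, (h _).2 ⟨x, x.2, rfl⟩⟩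
      map_zero' := Subtype.ext (map_zero Ψ)
      map_add' := fun x y => Subtype.ext (map_add Ψ _ _) }
  let e : P' ≃+ P :=
    AddEquiv.ofBijective f
      ⟨fun x y hxy => Subtype.ext (hΨ (congrArg Subtype.val hxy)), fun y => by
        obtain ⟨x, hx, e⟩ := (h _).1 y.2
        exact ⟨⟨x, hx⟩, Subtype.ext e⟩⟩
  have := rank_eq_of_equiv_equiv (R := deg0 𝒜') (R' := deg0 𝒜) (M := P') (M₁ := P)
    D.deg0Equiv e D.deg0Equiv.bijective (fun r m => Subtype.ext (map_smulₛₗ Ψ (r : R') (m : H')))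
  rw [Module.finrank, Module.finrank, this]

end K763.Ver
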