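import Groth.Prelude.Def_GrLC

/-!
# Elementary facts on graded modules
-/

set_option autoImplicit false
set_option linter.unusedSectionVars false
universe u

open DirectSum

namespace K763.Basic

section Dec

variable {ι : Type} [AddCommGroup ι] [DecidableEq ι]
variable {R : Type u} [CommRing R] (𝒜 : ι → AddSubgroup R) [GradedRing 𝒜]
variable {M : Type u} [AddCommGroup M] [Module R M] (ℳ : ι → AddSubgroup M)
  [DirectSum.Decomposition ℳ] [SetLike.GradedSMul 𝒜 ℳ]

lemma smul_mem {i j : ι} {r : R} {m : M} (hr : r ∈ 𝒜 i) (hm : m ∈ ℳ j) : r • m ∈ ℳ (i + j) := by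
  have h := SetLike.GradedSMul.smul_mem (A := 𝒜) (B := ℳ) hr hm
  rwa [vadd_eq_add] at h

/-- components of `r • m` for `m` homogeneous -/
lemma decompose_smul_right {i : ι} {m : M} (hm : m ∈ ℳ i) (r : R) (n : ι) :
    (DirectSum.decompose ℳ (r • m) n : M) = (DirectSum.decompose 𝒜 r (n - i) : R) • m := by
  classical
  induction r using DirectSum.Decomposition.inductionOn 𝒜 with
  | zero => simp
  | @homogeneous j r =>
    have h1 : (r : R) • m ∈ ℳ (j + i) := smul_mem 𝒜 ℳ r.2 hm
    by_cases h : n = j + i
    · subst h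
      rw [DirectSum.decompose_of_mem_same ℳ h1]
      rw [show j + i - i = j by abel, DirectSum.decompose_of_mem_same 𝒜 r.2]
    · rw [DirectSum.decompose_of_mem_ne ℳ h1 (Ne.symm h)]
      rw [DirectSum.decompose_of_mem_ne 𝒜 r.2 (j := n - i), zero_smul]
      intro h2
      exact h (by rw [h2]; abel)
  | add a b ha hb =>
    rw [add_smul, DirectSum.decompose_add, DirectSum.add_apply, AddMemClass.coe_add, ha, hb,
      DirectSum.decompose_add, DirectSum.add_apply, AddMemClass.coe_add, add_smul]

/-- components of `r • m` for `r` homogeneous -/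
lemma decompose_smul_left {i : ι} {r : R} (hr : r ∈ 𝒜 i) (m : M) (n : ι) :
    (DirectSum.decompose ℳ (r • m) n : M) = r • (DirectSum.decompose ℳ m (n - i) : M) := by
  classical
  induction m using DirectSum.Decomposition.inductionOn ℳ with
  | zero => simp
  | @homogeneous j m =>
    have h1 : r • (m : M) ∈ ℳ (i + j) := smul_mem 𝒜 ℳ hr m.2
    by_cases h : n = i + j
    · subst h
      rw [DirectSum.decompose_of_mem_same ℳ h1]
      rw [show i + j - i = j by abel, DirectSum.decompose_of_mem_same ℳ m.2]
    · rw [DirectSum.decompose_of_mem_ne ℳ h1 (Ne.symm h)]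
      rw [DirectSum.decompose_of_mem_ne ℳ m.2 (j := n - i), smul_zero]
      intro h2
      exact h (by rw [h2]; abel)
  | add a b ha hb =>
    rw [smul_add, DirectSum.decompose_add, DirectSum.add_apply, AddMemClass.coe_add, ha, hb,
      DirectSum.decompose_add, DirectSum.add_apply, AddMemClass.coe_add, smul_add]

omit [AddCommGroup ι] [Module R M] [SetLike.GradedSMul 𝒜 ℳ] in
lemma eq_zero_of_decompose {m : M} (h : ∀ n, (DirectSum.decompose ℳ m n : M) = 0) : m = 0 := by
  classical
  rw [← DirectSum.sum_support_decompose ℳ m]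
  exact Finset.sum_eq_zero fun i _ => h i

end Dec

end K763.Basic
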