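import Groth.Agent.S13217
import Groth.Agent.S13224
import Groth.Agent.S13225

/-! The comparison of graded and ungraded local cohomology, the grading (aliases). -/
set_option autoImplicit false
universe u

namespace K763.Cmp

theorem compare {ι : Type} [AddCommGroup ι] [DecidableEq ι] [Module.Free ℤ ι] [Module.Finite ℤ ι] (R : Type u) [CommRing R] [IsNoetherianRing R] (𝒜 : ι → AddSubgroup R) [GradedRing 𝒜] (a : HomogeneousIdeal 𝒜) (M : Type u) [AddCommGroup M] [Module R M] (ℳ : ι → AddSubgroup M) [DirectSum.Decomposition ℳ] [SetLike.GradedSMul 𝒜 ℳ] (E : GrLC.StarInjRes 𝒜 ℳ) (i : ℕ) : Nonempty (E.H a i ≃ₗ[R] LocCoh.H a.toIdeal i M) :=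
  Groth.Agent.S13224.result R 𝒜 a M ℳ E i

theorem internal {ι : Type} [AddCommGroup ι] [DecidableEq ι] [Module.Free ℤ ι] [Module.Finite ℤ ι] (R : Type u) [CommRing R] [IsNoetherianRing R] (𝒜 : ι → AddSubgroup R) [GradedRing 𝒜] (a : HomogeneousIdeal 𝒜) (M : Type u) [AddCommGroup M] [Module R M] (ℳ : ι → AddSubgroup M) [DirectSum.Decomposition ℳ] [SetLike.GradedSMul 𝒜 ℳ] (E : GrLC.StarInjRes 𝒜 ℳ) (i : ℕ) : DirectSum.IsInternal (E.Hgr a i) :=
  Groth.Agent.S13225.result R 𝒜 a M ℳ E i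

theorem acyclic {ι : Type} [AddCommGroup ι] [DecidableEq ι] [Module.Free ℤ ι] [Module.Finite ℤ ι] (R : Type u) [CommRing R] [IsNoetherianRing R] (𝒜 : ι → AddSubgroup R) [GradedRing 𝒜] (a : HomogeneousIdeal 𝒜) (I : Type u) [AddCommGroup I] [Module R I] (ℐ : ι → AddSubgroup I) [DirectSum.Decomposition ℐ] [SetLike.GradedSMul 𝒜 ℐ] (hI : GrLC.IsStarInj 𝒜 ℐ) (i : ℕ) (hi : 1 ≤ i) : Subsingleton (LocCoh.H a.toIdeal i I) :=
  Groth.Agent.S13217.result R 𝒜 a I ℐ hI i hi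

end K763.Cmp
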