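import Groth.Agent.GrLC.K763.GrField
import Groth.Agent.GrLC.K761.GrSub

/-!
# Pieces of finitely generated graded modules are finite over `R_0`
-/

set_option autoImplicit false
set_option linter.unusedSectionVars false
set_option linter.unusedVariables false
universe u

open DirectSum K763.Basic GrLC

namespace K763.FinComp

variable {R : Type u} [CommRing R] (𝒜 : ℤ → AddSubgroup R) [GradedRing 𝒜]
variable {M : Type u} [AddCommGroup M] [Module R M] (ℳ : ℤ → AddSubgroup M)
  [DirectSum.Decomposition ℳ] [SetLike.GradedSMul 𝒜 ℳ]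

lemma mem_comp {n : ℤ} {x : M} : x ∈ comp 𝒜 ℳ n ↔ x ∈ ℳ n := Iff.rfl

/-- multiplication by `f` as a map over `deg0 𝒜` -/
def smulMap (f : M) : R →ₗ[deg0 𝒜] M :=
  (LinearMap.toSpanSingleton R M f).restrictScalars (deg0 𝒜)

lemma smulMap_apply (f : M) (r : R) : smulMap 𝒜 f r = r • f := rfl

lemma decompose_mem (s : Finset M) (d : M → ℤ) (hs : ∀ f ∈ s, f ∈ ℳ (d f)) {x : M}
    (hx : x ∈ Submodule.span R (s : Set M)) (n : ℤ) :
    (decompose ℳ x n : M) ∈ ⨆ f ∈ s, (comp 𝒜 𝒜 (n - d f)).map (smulMap 𝒜 f) := by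
  have h2 : ∀ f ∈ s, ∀ r : R, (decompose ℳ (r • f) n : M) ∈
      ⨆ f ∈ s, (comp 𝒜 𝒜 (n - d f)).map (smulMap 𝒜 f) := by
    intro f hf r
    rw [decompose_smul_right 𝒜 ℳ (hs f hf)]
    refine Submodule.mem_iSup_of_mem f (Submodule.mem_iSup_of_mem hf ?_)
    exact ⟨_, (decompose 𝒜 r (n - d f)).2, rfl⟩
  induction hx using Submodule.span_induction with
  | mem y hy =>
    have := h2 y hy 1
    rwa [one_smul] at this
  | zero => rw [decompose_zero]; exact zero_mem _
  | add x y _ _ hx hy =>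
    rw [decompose_add, DirectSum.add_apply, AddMemClass.coe_add]; exact add_mem hx hy
  | smul r y hy' hy =>
    clear hy
    induction hy' using Submodule.span_induction generalizing r with
    | mem y hy => exact h2 y hy r
    | zero => rw [smul_zero, decompose_zero]; exact zero_mem _
    | add x y _ _ hx hy =>
      rw [smul_add, decompose_add, DirectSum.add_apply, AddMemClass.coe_add]
      exact add_mem (hx r) (hy r)
    | smul t y _ hy => rw [smul_smul]; exact hy (r * t)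

/-- the piece of degree `n` of the submodule spanned by homogeneous elements -/
lemma comp_eq_iSup (s : Finset M) (d : M → ℤ) (hs : ∀ f ∈ s, f ∈ ℳ (d f)) (n : ℤ)
    (h : ∀ x ∈ ℳ n, x ∈ Submodule.span R (s : Set M)) :
    comp 𝒜 ℳ n = ⨆ f ∈ s, (comp 𝒜 𝒜 (n - d f)).map (smulMap 𝒜 f) := by
  apply le_antisymm
  · intro x hx
    have := decompose_mem 𝒜 ℳ s d hs (h x hx) n
    rwa [decompose_of_mem_same ℳ hx] at this
  · refine iSup₂_le fun f hf => ?_
    rintro _ ⟨r, hr, rfl⟩
    rw [smulMap_apply, mem_comp]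
    have h1 := smul_mem 𝒜 ℳ (i := n - d f) (j := d f) hr (hs f hf)
    rwa [sub_add_cancel] at h1

lemma fg_of_span (s : Finset M) (d : M → ℤ) (hs : ∀ f ∈ s, f ∈ ℳ (d f)) (n : ℤ)
    (h : ∀ x ∈ ℳ n, x ∈ Submodule.span R (s : Set M))
    (hfg : ∀ f ∈ s, (comp 𝒜 𝒜 (n - d f)).FG) : (comp 𝒜 ℳ n).FG := by
  rw [comp_eq_iSup 𝒜 ℳ s d hs n h]
  exact Submodule.fg_biSup _ _ fun f hf => (hfg f hf).map _

section Ring

variable (hpos : ∀ n : ℤ, n < 0 → 𝒜 n = ⊥) [IsNoetherianRing R]

include hpos in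
/-- the pieces of a Noetherian nonnegatively graded ring are finite over `R_0` -/
theorem fg_comp_ring (n : ℤ) : (comp 𝒜 𝒜 n).FG := by
  classical
  by_cases hn : n < 0
  · have : comp 𝒜 𝒜 n = ⊥ := by
      rw [eq_bot_iff]
      intro x hx
      exact (AddSubgroup.eq_bot_iff_forall _).1 (hpos n hn) x hx
    rw [this]; exact Submodule.fg_bot
  obtain ⟨N, rfl⟩ := Int.eq_ofNat_of_zero_le (not_lt.1 hn)
  clear hn
  have hfg : (Submodule.span R (⋃ n ∈ Set.Ioi (0 : ℤ), (𝒜 n : Set R))).FG :=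
    IsNoetherian.noetherian _
  obtain ⟨s, hs1, hs2⟩ := (Submodule.fg_span_iff_fg_span_finset_subset _).1 hfg
  have hs3 : ∀ f ∈ s, ∃ n : ℤ, 0 < n ∧ f ∈ 𝒜 n := by
    intro f hf
    have := hs1 hf
    simp only [Set.mem_iUnion] at this
    obtain ⟨n, hn, h⟩ := this
    exact ⟨n, hn, h⟩
  have hs4 : ∀ f : R, ∃ n : ℤ, f ∈ s → 0 < n ∧ f ∈ 𝒜 n := by
    intro f
    by_cases hf : f ∈ s
    · obtain ⟨n, hn⟩ := hs3 f hf
      exact ⟨n, fun _ => hn⟩
    · exact ⟨0, fun h => absurd h hf⟩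
  choose d hd using hs4
  induction N using Nat.strong_induction_on with
  | _ N ih =>
    rcases Nat.eq_zero_or_pos N with rfl | hN
    · refine ⟨{1}, ?_⟩
      apply le_antisymm
      · rw [Submodule.span_le]
        intro x hx
        simp only [Finset.coe_singleton, Set.mem_singleton_iff] at hx
        rw [hx]
        exact SetLike.GradedOne.one_mem (A := 𝒜)
      · intro x hx
        have h1 : x = (⟨x, hx⟩ : deg0 𝒜) • (1 : R) := (mul_one x).symm
        rw [h1]
        exact Submodule.smul_mem _ _ (Submodule.subset_span (by simp))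
    · refine fg_of_span 𝒜 𝒜 s d (fun f hf => (hd f hf).2) N ?_ ?_
      · intro x hx
        rw [← hs2]
        exact mem_of_pos_span hN hx
      · intro f hf
        have h1 := (hd f hf).1
        by_cases h2 : (N : ℤ) - d f < 0
        · have : comp 𝒜 𝒜 ((N : ℤ) - d f) = ⊥ := by
            rw [eq_bot_iff]
            intro x hx
            exact (AddSubgroup.eq_bot_iff_forall _).1 (hpos _ h2) x hx
          rw [this]; exact Submodule.fg_bot
        · obtain ⟨M, hM⟩ := Int.eq_ofNat_of_zero_le (not_lt.1 h2)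
          rw [hM]
          exact ih M (by omega)
  where
  mem_of_pos_span {N : ℕ} (hN : 0 < N) {x : R} (hx : x ∈ 𝒜 (N : ℤ)) :
      x ∈ Submodule.span R (⋃ n ∈ Set.Ioi (0 : ℤ), (𝒜 n : Set R)) := by
    refine Submodule.subset_span ?_
    simp only [Set.mem_iUnion]
    exact ⟨(N : ℤ), by simpa using hN, hx⟩

include hpos in
/-- the pieces of a f.g. graded module are finite over `R_0` -/
theorem fg_comp [Module.Finite R M] (n : ℤ) : (comp 𝒜 ℳ n).FG := by
  classical
  -- homogeneous generators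
  have hspan : (⊤ : Submodule R M) = Submodule.span R (⋃ i : ℤ, (ℳ i : Set M)) := by
    refine le_antisymm ?_ le_top
    intro x _
    rw [← sum_support_decompose ℳ x]
    refine sum_mem fun i _ => Submodule.subset_span ?_
    exact Set.mem_iUnion.2 ⟨i, (decompose ℳ x i).2⟩
  have hfg : (Submodule.span R (⋃ i : ℤ, (ℳ i : Set M))).FG := by
    rw [← hspan]; exact Module.Finite.fg_top
  obtain ⟨s, hs1, hs2⟩ := (Submodule.fg_span_iff_fg_span_finset_subset _).1 hfg
  have hs4 : ∀ f : M, ∃ n : ℤ, f ∈ s → f ∈ ℳ n := by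
    intro f
    by_cases hf : f ∈ s
    · obtain ⟨n, hn⟩ := Set.mem_iUnion.1 (hs1 hf)
      exact ⟨n, fun _ => hn⟩
    · exact ⟨0, fun h => absurd h hf⟩
  choose d hd using hs4
  refine fg_of_span 𝒜 ℳ s d (fun f hf => hd f hf) n ?_ ?_
  · intro x _
    rw [← hs2, ← hspan]; trivial
  · intro f _
    exact fg_comp_ring 𝒜 hpos _

include hpos in
theorem finite_comp [Module.Finite R M] (n : ℤ) : Module.Finite (deg0 𝒜) (comp 𝒜 ℳ n) :=
  Module.Finite.iff_fg.2 (fg_comp 𝒜 ℳ hpos n)

include hpos in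
theorem finite_comp_ring (n : ℤ) : Module.Finite (deg0 𝒜) (comp 𝒜 𝒜 n) :=
  Module.Finite.iff_fg.2 (fg_comp_ring 𝒜 hpos n)

end Ring

end K763.FinComp
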