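
import Mathlib.LinearAlgebra.Quotient.Basic

/-! # A semilinear map out of a presented module -/

set_option autoImplicit false
universe u

namespace K763.Glue

variable {R : Type u} [CommRing R] {R' : Type u} [CommRing R'] {φ : R' →+* R}
variable {Z' : Type u} [AddCommGroup Z'] [Module R' Z'] {Z : Type u} [AddCommGroup Z] [Module R Z]
variable {H' : Type u} [AddCommGroup H'] [Module R' H'] {H : Type u} [AddCommGroup H] [Module R H]

/-- A semilinear map between the cocycles descends to an injective semilinear map. -/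
theorem exists_glue (s' : Z' →ₗ[R'] H') (hs' : Function.Surjective s') (s : Z →ₗ[R] H)
    (g : Z' →ₛₗ[φ] Z) (hk : ∀ z, s' z = 0 ↔ s (g z) = 0) :
    ∃ Ψ : H' →ₛₗ[φ] H, Function.Injective Ψ ∧ ∀ z, Ψ (s' z) = s (g z) := by
  have hsur : ∀ y, ∃ z, s' z = y := hs'
  choose t ht using hsur
  have hwd : ∀ z w, s' z = s' w → s (g z) = s (g w) := by
    intro z w h
    rw [← sub_eq_zero, ← map_sub, ← map_sub, ← hk, map_sub, h, sub_self]
  have hΨ : ∀ z, s (g (t (s' z))) = s (g z) := fun z => hwd _ _ (ht _)
  refine ⟨{ toFun := fun y => s (g (t y))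
            map_add' := fun x y => ?_
            map_smul' := fun r x => ?_ }, ?_, fun z => hΨ z⟩
  · rw [← map_add, ← map_add]
    exact hwd _ _ (by rw [ht, map_add, ht, ht])
  · rw [← map_smul, ← map_smulₛₗ]
    exact hwd _ _ (by rw [ht, map_smul, ht])
  · refine (injective_iff_map_eq_zero _).2 fun y hy => ?_
    change s (g (t y)) = 0 at hy
    rw [← ht y]
    exact (hk _).2 hy

end K763.Glue
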