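import Groth.Agent.GrLC.K763.Mat
import Groth.Agent.GrLC.K763.FinComp
import Groth.Agent.GrLC.K763.HGr
import Groth.Agent.GrLC.K760.Gr
import Groth.Agent.GrLC.K759.Hgr
import Groth.Agent.GrLC.K759.Exist
import Groth.Agent.GrLC.K759.Prime
import Groth.Agent.S13244
import Mathlib.LinearAlgebra.Dual.Lemmas

/-!
# Top local cohomology of a Gorenstein graded ring over a field

`H^n_m(R) ≅ *E(k)` shifted by the `a`-invariant: every nonzero `h ∈ H_j` has a nonzero multiple of degree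
`a`, and `dim H_{a - i} = dim R_i`.
-/

set_option autoImplicit false
set_option linter.unusedSectionVars false
set_option linter.unusedVariables false
set_option linter.style.haveILetI false
universe u

open DirectSum GrLC K761.Gr

namespace K763.GorPair

variable {R : Type u} [CommRing R] {𝒜 : ℤ → AddSubgroup R} [GradedRing 𝒜]
variable (hpos : ∀ n : ℤ, n < 0 → 𝒜 n = ⊥) (h0 : IsField (deg0 𝒜))
variable {m : HomogeneousIdeal 𝒜} (hm : m.toIdeal = Ideal.span (⋃ n ∈ Set.Ioi (0 : ℤ), (𝒜 n : Set R)))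
variable {E' : Type u} [AddCommGroup E'] [Module R E'] {𝓔 : ℤ → AddSubgroup E'}
  [Decomposition 𝓔] [SetLike.GradedSMul 𝒜 𝓔] {e : (R ⧸ m.toIdeal) →ₗ[R] E'}

include hpos h0 hm in
lemma e_one_ne_zero (he : IsStarEss (quotGr 𝒜 m) 𝓔 e) : e (Ideal.Quotient.mk m.toIdeal 1) ≠ 0 := by
  intro h
  rw [map_one] at h
  have h3 : (1 : R ⧸ m.toIdeal) = 0 := he.injective (by rw [h, map_zero])
  have h4 : (1 : R) ∈ m.toIdeal := by
    rw [← Ideal.Quotient.eq_zero_iff_mem, map_one]; exact h3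
  exact K763.GrField.ne_top 𝒜 hpos h0 hm ((Ideal.eq_top_iff_one _).2 h4)

/-- `E'_{-i} → Hom(R_i, E'_0)` -/
noncomputable def toHom {i j : ℤ} (hij : i + j = 0) :
    comp 𝒜 𝓔 j →ₗ[deg0 𝒜] (comp 𝒜 𝒜 i →ₗ[deg0 𝒜] comp 𝒜 𝓔 0) where
  toFun x :=
    { toFun := fun r => ⟨(r : R) • (x : E'), by
        have := SetLike.GradedSMul.smul_mem (A := 𝒜) (B := 𝓔) r.2 x.2
        rw [vadd_eq_add, hij] at this
        exact this⟩
      map_add' := fun r s => Subtype.ext (add_smul _ _ _)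
      map_smul' := fun a r => Subtype.ext (by
        change ((a : R) * (r : R)) • (x : E') = (a : R) • (r : R) • (x : E')
        rw [mul_smul]) }
  map_add' x y := by
    ext r
    exact smul_add (r : R) (x : E') (y : E')
  map_smul' a x := by
    ext r
    change (r : R) • (a : R) • (x : E') = (a : R) • (r : R) • (x : E')
    rw [smul_comm]

include hpos h0 hm in
lemma toHom_bijective (he : IsStarInjHull 𝒜 (quotGr 𝒜 m) 𝓔 e) {i j : ℤ} (hij : i + j = 0) :
    Function.Bijective (toHom (𝒜 := 𝒜) (𝓔 := 𝓔) hij) := by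
  constructor
  · rw [injective_iff_map_eq_zero]
    intro x hx
    have h1 : LinearMap.toSpanSingleton R E' (x : E') = 0 := by
      refine Mat.eq_zero_of_comp hpos h0 hm he.toIsStarEss (ℳ := 𝒜) (d := j) (j := i) hij ?_ ?_
      · intro g r hr
        exact SetLike.GradedSMul.smul_mem (A := 𝒜) (B := 𝓔) hr x.2
      · intro r hr
        have := LinearMap.congr_fun hx (⟨r, hr⟩ : comp 𝒜 𝒜 i)
        exact congrArg Subtype.val this
    have h2 := LinearMap.congr_fun h1 1
    rw [LinearMap.toSpanSingleton_apply, one_smul] at h2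
    exact Subtype.ext h2
  · intro l
    obtain ⟨f, hf, hfl⟩ := Mat.exists_extend hpos h0 hm he (ℳ := 𝒜) (d := j) (j := i) hij l
    have h1 : f 1 ∈ 𝓔 j := by
      have := hf 0 1 SetLike.GradedOne.one_mem
      rwa [zero_add] at this
    refine ⟨⟨f 1, h1⟩, ?_⟩
    ext r
    rw [← hfl r]
    change (r : R) • f 1 = f r
    rw [← map_smul, smul_eq_mul, mul_one]

include hpos h0 hm in
theorem finrank_comp_hull [IsNoetherianRing R] (he : IsStarInjHull 𝒜 (quotGr 𝒜 m) 𝓔 e) {i j : ℤ}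
    (hij : i + j = 0) :
    Module.finrank (deg0 𝒜) (comp 𝒜 𝓔 j) = Module.finrank (deg0 𝒜) (comp 𝒜 𝒜 i) := by
  letI : Field (deg0 𝒜) := h0.toField
  have hfin : Module.Finite (deg0 𝒜) (comp 𝒜 𝒜 i) := FinComp.finite_comp_ring 𝒜 hpos i
  let T := LinearEquiv.ofBijective _ (toHom_bijective hpos h0 hm he hij)
  rw [T.finrank_eq, (LinearEquiv.congrRight (Mat.zeroEquiv hpos h0 hm he.toIsStarEss).symm).finrank_eq]
  exact Subspace.dual_finrank_eq

include hpos h0 hm in
theorem finite_comp_hull [IsNoetherianRing R] (he : IsStarInjHull 𝒜 (quotGr 𝒜 m) 𝓔 e) {i j : ℤ}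
    (hij : i + j = 0) : Module.Finite (deg0 𝒜) (comp 𝒜 𝓔 j) := by
  letI : Field (deg0 𝒜) := h0.toField
  have hfin : Module.Finite (deg0 𝒜) (comp 𝒜 𝒜 i) := FinComp.finite_comp_ring 𝒜 hpos i
  let T := LinearEquiv.ofBijective _ (toHom_bijective hpos h0 hm he hij)
  let T2 := (LinearEquiv.congrRight (M := comp 𝒜 𝒜 i) (Mat.zeroEquiv hpos h0 hm he.toIsStarEss))
  have : Module.Finite (deg0 𝒜) (comp 𝒜 𝒜 i →ₗ[deg0 𝒜] deg0 𝒜) := inferInstance
  exact Module.Finite.equiv (T2 ≪≫ₗ T.symm)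

/-- The duality data of a Gorenstein graded ring over a field. -/
theorem gor [hG : LocCoh.IsGorensteinRing R] (hpos : ∀ n : ℤ, n < 0 → 𝒜 n = ⊥)
    (h0 : IsField (deg0 𝒜))
    (hml : IsStarLocal 𝒜 m)
    (hm : m.toIdeal = Ideal.span (⋃ n ∈ Set.Ioi (0 : ℤ), (𝒜 n : Set R))) (n : ℕ)
    (hn : ringKrullDim R = n) (I : StarInjRes 𝒜 𝒜) (a : ℤ)
    (ha : endDeg (I.Hgr m n) = ((a : WithTop ℤ) : WithBot (WithTop ℤ))) :
    (∀ j, ∀ h ∈ I.Hgr m n j, h ≠ 0 → ∃ r ∈ 𝒜 (a - j), r • h ≠ 0) ∧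
    (∀ i, Module.Finite (deg0 𝒜) (I.Hcomp m n (a - i)) ∧
      Module.finrank (deg0 𝒜) (I.Hcomp m n (a - i)) = Module.finrank (deg0 𝒜) (comp 𝒜 𝒜 i)) := by
  have hN : IsNoetherianRing R := inferInstance
  have hht : m.toIdeal.height = n := by
    have h1 := GrField.height_eq_ringKrullDim 𝒜 hpos h0 hm
    rw [hn] at h1
    have h2 : ((m.toIdeal.height : ℕ∞) : WithBot ℕ∞) = ((n : ℕ∞) : WithBot ℕ∞) := h1
    exact WithBot.coe_injective h2
  letI := K759.Prime.quotDec m
  obtain ⟨E, e, he⟩ := K759.Exist.exists_hull 𝒜 (quotGr 𝒜 m)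
  have hess := he.toIsStarEss
  obtain ⟨g, Φ, hΦ⟩ := Groth.Agent.S13244.result R 𝒜 m hml n hht I E.carrier E.gr e he
  letI := K759.Hgr.Hdec I m n
  have hΦs : IsGrHomDeg E.gr (I.Hgr m n) Φ.symm.toLinearMap (-g) := K760.Gr.symm_isGrHomDeg hΦ
  obtain ⟨ha1, ha2⟩ := (HGr.endDeg_eq_iff _).1 ha
  -- the shift is the `a`-invariant
  have hg : g = -a := by
    have h1 : a + g ≤ 0 := by
      rw [Ne, AddSubgroup.eq_bot_iff_forall] at ha1
      push Not at ha1
      obtain ⟨h, hh, hh0⟩ := ha1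
      exact (Mat.exists_smul_eq hpos h0 hm hess (hΦ a h hh) (by simpa using hh0)).1
    have h2 : -g ≤ a := by
      by_contra hlt
      have h3 : e (Ideal.Quotient.mk m.toIdeal 1) ∈ E.gr 0 :=
        Mat.e_mk_mem hess.grHom SetLike.GradedOne.one_mem
      have h4 := hΦs 0 _ h3
      rw [zero_add, ha2 (-g) (by omega), AddSubgroup.mem_bot] at h4
      exact e_one_ne_zero hpos h0 hm hess (by simpa using h4)
    omega
  subst hg
  refine ⟨fun j h hh hh0 => ?_, fun i => ?_⟩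
  · obtain ⟨-, r, hr, h1⟩ := Mat.exists_smul_eq hpos h0 hm hess (hΦ j h hh) (by simpa using hh0)
    refine ⟨r, ?_, ?_⟩
    · rwa [show -(j + -a) = a - j by ring] at hr
    · intro hrh
      apply e_one_ne_zero hpos h0 hm hess
      rw [← h1]
      change r • Φ h = 0
      rw [← map_smul, hrh, map_zero]
  · let T : I.Hcomp m n (a - i) ≃ₗ[deg0 𝒜] comp 𝒜 E.gr (-i) :=
      { toFun := fun x => ⟨Φ x, by
          have := hΦ (a - i) x x.2
          rwa [show a - i + -a = -i by ring] at this⟩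
        map_add' := fun x y => Subtype.ext (map_add Φ _ _)
        map_smul' := fun c x => Subtype.ext (map_smul Φ (c : R) (x : I.H m n))
        invFun := fun x => ⟨Φ.symm x, by
          have := hΦs (-i) x x.2
          rwa [neg_neg, show -i + a = a - i by ring] at this⟩
        left_inv := fun x => Subtype.ext (Φ.symm_apply_apply _)
        right_inv := fun x => Subtype.ext (Φ.apply_symm_apply _) }
    have hfin : Module.Finite (deg0 𝒜) (comp 𝒜 E.gr (-i)) :=
      finite_comp_hull hpos h0 hm he (i := i) (j := -i) (by omega)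
    refine ⟨Module.Finite.equiv T.symm, ?_⟩
    rw [T.finrank_eq]
    exact finrank_comp_hull hpos h0 hm he (by omega)

end K763.GorPair
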