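import Groth.Agent.GrLC.K763.GrField
import Groth.Agent.GrLC.K759.Ess
import Groth.Agent.GrLC.K761.Baer

/-!
# Graded Matlis duality over a field, minimal form

`R` nonnegatively graded, `R_0` a field, `m = R_+`, `e : R/m → E'` a *injective hull. Then
`E'_j = 0` for `j > 0`, `E'_0 = e(R/m)`, every element of `E'_0` is killed by `m`, and for every graded
module `M` restriction to `M_j` is a bijection from the homogeneous maps `M → E'` of degree `-j` onto
`Hom_{R_0}(M_j, E'_0)`.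
-/

set_option autoImplicit false
set_option linter.unusedSectionVars false
set_option linter.unusedVariables false
set_option linter.style.haveILetI false
universe u

open DirectSum GrLC K761.Gr

namespace K763.Mat

variable {R : Type u} [CommRing R] {𝒜 : ℤ → AddSubgroup R} [GradedRing 𝒜]
variable (hpos : ∀ n : ℤ, n < 0 → 𝒜 n = ⊥) (h0 : IsField (deg0 𝒜))
variable {m : HomogeneousIdeal 𝒜} (hm : m.toIdeal = Ideal.span (⋃ n ∈ Set.Ioi (0 : ℤ), (𝒜 n : Set R)))
variable {E' : Type u} [AddCommGroup E'] [Module R E'] {𝓔 : ℤ → AddSubgroup E'}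
  [Decomposition 𝓔] [SetLike.GradedSMul 𝒜 𝓔] {e : (R ⧸ m.toIdeal) →ₗ[R] E'}

include hpos hm in
/-- every class mod `m` has a representative of degree zero -/
lemma exists_rep (c : R ⧸ m.toIdeal) : ∃ a ∈ 𝒜 0, Ideal.Quotient.mk m.toIdeal a = c := by
  obtain ⟨x, rfl⟩ := Ideal.Quotient.mk_surjective c
  refine ⟨(decompose 𝒜 x 0 : R), (decompose 𝒜 x 0).2, ?_⟩
  symm
  rw [Ideal.Quotient.eq]
  exact K763.GrField.sub_zero_mem 𝒜 hpos hm x

lemma e_mk_mem (he : IsGrHom (quotGr 𝒜 m) 𝓔 e) {a : R} (ha : a ∈ 𝒜 0) :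
    e (Ideal.Quotient.mk m.toIdeal a) ∈ 𝓔 0 :=
  he 0 _ ⟨a, ha, rfl⟩

include hpos hm in
lemma range_mem (he : IsGrHom (quotGr 𝒜 m) 𝓔 e) {x : E'} (hx : x ∈ LinearMap.range e) : x ∈ 𝓔 0 := by
  obtain ⟨c, rfl⟩ := hx
  obtain ⟨a, ha, rfl⟩ := exists_rep hpos hm c
  exact e_mk_mem he ha

include hpos hm in
lemma range_isHomogeneous (he : IsGrHom (quotGr 𝒜 m) 𝓔 e) :
    (LinearMap.range e).IsHomogeneous 𝓔 := by
  rw [isHomogeneous_iff 𝓔]
  intro i x hx
  by_cases hi : (0 : ℤ) = i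
  · subst hi
    rwa [pr_of_mem (range_mem hpos hm he hx)]
  · rw [pr_of_mem_ne (range_mem hpos hm he hx) hi]
    exact zero_mem _

include hpos h0 hm in
/-- essentiality: a nonzero homogeneous element of degree `j` has a multiple `e(1)`, by an element of
degree `-j`; in particular `j ≤ 0`. -/
lemma exists_smul_eq (he : IsStarEss (quotGr 𝒜 m) 𝓔 e) {j : ℤ} {x : E'} (hx : x ∈ 𝓔 j) (hx0 : x ≠ 0) :
    j ≤ 0 ∧ ∃ r ∈ 𝒜 (-j), r • x = e (Ideal.Quotient.mk m.toIdeal 1) := by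
  obtain ⟨i, r, hr, hr0, hrx⟩ := K759.Ess.exists_smul_of_homogeneous 𝒜
    (range_isHomogeneous hpos hm he.grHom) he.essential hx hx0
  have h1 := range_mem hpos hm he.grHom hrx
  have h2 : r • x ∈ 𝓔 (i + j) := SetLike.GradedSMul.smul_mem (A := 𝒜) (B := 𝓔) hr hx
  have h3 : i + j = 0 := by
    by_contra h
    exact hr0 (by rw [← pr_of_mem h1, pr_of_mem_ne h2 h])
  have hi : i = -j := by omega
  subst hi
  have h4 : 0 ≤ -j := by
    by_contra h
    have := hpos (-j) (by omega)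
    rw [this, AddSubgroup.mem_bot] at hr
    exact hr0 (by rw [hr, zero_smul])
  refine ⟨by omega, ?_⟩
  obtain ⟨c, hc⟩ := hrx
  obtain ⟨a, ha, rfl⟩ := exists_rep hpos hm c
  have ha0 : a ≠ 0 := by
    rintro rfl
    rw [map_zero, map_zero] at hc
    exact hr0 hc.symm
  obtain ⟨b, hb⟩ := h0.mul_inv_cancel (a := (⟨a, ha⟩ : deg0 𝒜))
    (fun h => ha0 (congrArg Subtype.val h))
  have hb' : (b : R) * a = 1 := by
    rw [mul_comm]; exact congrArg Subtype.val hb
  refine ⟨(b : R) * r, ?_, ?_⟩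
  · have := SetLike.GradedMul.mul_mem (A := 𝒜) b.2 hr
    rwa [zero_add] at this
  · rw [mul_smul, ← hc, ← map_smul, ← hb']
    congr 1

include hpos h0 hm in
lemma eq_zero_of_pos (he : IsStarEss (quotGr 𝒜 m) 𝓔 e) {j : ℤ} (hj : 0 < j) {x : E'} (hx : x ∈ 𝓔 j) :
    x = 0 := by
  by_contra h
  have := (exists_smul_eq hpos h0 hm he hx h).1
  omega

include hpos h0 hm in
/-- elements of degree zero are multiples of `e(1)`. -/
lemma mem_range_of_zero (he : IsStarEss (quotGr 𝒜 m) 𝓔 e) {x : E'} (hx : x ∈ 𝓔 0) :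
    ∃ a ∈ 𝒜 0, x = e (Ideal.Quotient.mk m.toIdeal a) := by
  by_cases hx0 : x = 0
  · exact ⟨0, zero_mem _, by rw [map_zero, map_zero, hx0]⟩
  obtain ⟨-, r, hr, h1⟩ := exists_smul_eq hpos h0 hm he hx hx0
  rw [neg_zero] at hr
  have hr0 : r ≠ 0 := by
    rintro rfl
    rw [zero_smul, map_one] at h1
    have h2 : (1 : R ⧸ m.toIdeal) = 0 := he.injective (by rw [← h1, map_zero])
    have h3 : (1 : R) ∈ m.toIdeal := by
      rw [← Ideal.Quotient.eq_zero_iff_mem, map_one]; exact h2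
    exact K763.GrField.ne_top 𝒜 hpos h0 hm ((Ideal.eq_top_iff_one _).2 h3)
  obtain ⟨b, hb⟩ := h0.mul_inv_cancel (a := (⟨r, hr⟩ : deg0 𝒜))
    (fun h => hr0 (congrArg Subtype.val h))
  have hb' : (b : R) * r = 1 := by
    rw [mul_comm]; exact congrArg Subtype.val hb
  refine ⟨b, b.2, ?_⟩
  have h2 : (b : R) • r • x = x := by rw [smul_smul, hb', one_smul]
  rw [← h2, h1, ← map_smul]
  congr 1
  rw [← Ideal.Quotient.mk_eq_mk, ← Submodule.Quotient.mk_smul, smul_eq_mul, mul_one]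
  rfl

include hpos h0 hm in
lemma smul_eq_zero (he : IsStarEss (quotGr 𝒜 m) 𝓔 e) {x : E'} (hx : x ∈ 𝓔 0) {r : R}
    (hr : r ∈ m.toIdeal) : r • x = 0 := by
  obtain ⟨a, ha, rfl⟩ := mem_range_of_zero hpos h0 hm he hx
  rw [← map_smul]
  have : r • (Ideal.Quotient.mk m.toIdeal a) = 0 := by
    rw [← Ideal.Quotient.mk_eq_mk, ← Submodule.Quotient.mk_smul]
    exact (Submodule.Quotient.mk_eq_zero _).2 (m.toIdeal.mul_mem_right _ hr)
  rw [this, map_zero]

/-- the map `R_0 → E'_0` given by `e`. -/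
noncomputable def zeroMap (he : IsGrHom (quotGr 𝒜 m) 𝓔 e) : deg0 𝒜 →ₗ[deg0 𝒜] comp 𝒜 𝓔 0 where
  toFun a := ⟨e (Ideal.Quotient.mk m.toIdeal a), e_mk_mem he a.2⟩
  map_add' a b := Subtype.ext (by
    change e (Ideal.Quotient.mk m.toIdeal ((a : R) + b)) = _
    rw [map_add, map_add]; rfl)
  map_smul' a b := Subtype.ext (by
    change e (Ideal.Quotient.mk m.toIdeal ((a : R) * b)) = (a : R) • e (Ideal.Quotient.mk m.toIdeal b)
    rw [← map_smul]
    congr 1)

include hpos h0 hm in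
lemma zeroMap_bijective (he : IsStarEss (quotGr 𝒜 m) 𝓔 e) :
    Function.Bijective (zeroMap he.grHom) := by
  constructor
  · rw [injective_iff_map_eq_zero]
    intro a ha
    have h1 : e (Ideal.Quotient.mk m.toIdeal a) = 0 := congrArg Subtype.val ha
    have h2 : Ideal.Quotient.mk m.toIdeal (a : R) = 0 := he.injective (by rw [h1, map_zero])
    rw [Ideal.Quotient.eq_zero_iff_mem] at h2
    have h3 := K763.GrField.decompose_zero_eq_zero 𝒜 hpos hm h2
    rw [decompose_of_mem_same 𝒜 (show (a : R) ∈ 𝒜 0 from a.2)] at h3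
    exact Subtype.ext h3
  · rintro ⟨x, hx⟩
    obtain ⟨a, ha, h⟩ := mem_range_of_zero hpos h0 hm he hx
    exact ⟨⟨a, ha⟩, Subtype.ext h.symm⟩

/-- `E'_0` is one dimensional over `R_0`. -/
noncomputable def zeroEquiv (he : IsStarEss (quotGr 𝒜 m) 𝓔 e) : deg0 𝒜 ≃ₗ[deg0 𝒜] comp 𝒜 𝓔 0 :=
  LinearEquiv.ofBijective (zeroMap he.grHom) (zeroMap_bijective hpos h0 hm he)

section Ext

variable {M : Type u} [AddCommGroup M] [Module R M] {ℳ : ℤ → AddSubgroup M}
  [Decomposition ℳ] [SetLike.GradedSMul 𝒜 ℳ]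

include hpos h0 hm in
/-- a homogeneous map into `E'` of degree `d` vanishes if it vanishes on `M_{-d}`. -/
theorem eq_zero_of_comp (he : IsStarEss (quotGr 𝒜 m) 𝓔 e) {d j : ℤ} (hjd : j + d = 0)
    {f : M →ₗ[R] E'} (hf : IsGrHomDeg ℳ 𝓔 f d) (h : ∀ x ∈ ℳ j, f x = 0) : f = 0 := by
  ext x
  rw [LinearMap.zero_apply]
  induction x using induction ℳ with
  | h0 => rw [map_zero]
  | hadd a b ha hb => rw [map_add, ha, hb, add_zero]
  | hom i x hx =>
    by_contra hne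
    obtain ⟨-, r, hr, h1⟩ := exists_smul_eq hpos h0 hm he (hf i x hx) hne
    rw [← map_smul] at h1
    have h2 : r • x ∈ ℳ j := by
      have := SetLike.GradedSMul.smul_mem (A := 𝒜) (B := ℳ) hr hx
      rwa [vadd_eq_add, show -(i + d) + i = j by omega] at this
    rw [h _ h2, map_one] at h1
    have h3 : (1 : R ⧸ m.toIdeal) = 0 := he.injective (by rw [← h1, map_zero])
    have h4 : (1 : R) ∈ m.toIdeal := by
      rw [← Ideal.Quotient.eq_zero_iff_mem, map_one]; exact h3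
    exact K763.GrField.ne_top 𝒜 hpos h0 hm ((Ideal.eq_top_iff_one _).2 h4)

variable (𝒜 ℳ) in
/-- the component of degree `j`, as a map linear over `R_0` -/
def cpt (j : ℤ) : M →ₗ[deg0 𝒜] comp 𝒜 ℳ j where
  toFun x := ⟨pr ℳ j x, pr_mem ℳ j x⟩
  map_add' x y := Subtype.ext (map_add _ _ _)
  map_smul' r x := Subtype.ext (by
    change pr ℳ j ((r : R) • x) = (r : R) • pr ℳ j x
    rw [pr_smul' ℳ (show (r : R) ∈ 𝒜 0 from r.2), sub_zero])

lemma coe_cpt (j : ℤ) (x : M) : (cpt 𝒜 ℳ j x : M) = pr ℳ j x := rfl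

lemma cpt_of_mem {j : ℤ} (x : comp 𝒜 ℳ j) : cpt 𝒜 ℳ j (x : M) = x :=
  Subtype.ext (pr_of_mem x.2)

lemma cpt_of_mem_ne {i j : ℤ} {x : M} (hx : x ∈ ℳ i) (h : i ≠ j) : cpt 𝒜 ℳ j x = 0 :=
  Subtype.ext (pr_of_mem_ne hx h)

/-- the submodule of elements without components of degree `< j` -/
def ge (hpos : ∀ n : ℤ, n < 0 → 𝒜 n = ⊥) (ℳ : ℤ → AddSubgroup M)
    [Decomposition ℳ] [SetLike.GradedSMul 𝒜 ℳ] (j : ℤ) : Submodule R M where
  carrier := {x | ∀ i < j, pr ℳ i x = 0}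
  zero_mem' i _ := map_zero _
  add_mem' {a b} ha hb i hi := by rw [map_add, ha i hi, hb i hi, add_zero]
  smul_mem' r x hx i hi := by
    induction r using induction 𝒜 with
    | h0 => simp
    | hadd a b ha hb => rw [add_smul, map_add, ha, hb, add_zero]
    | hom n r hr =>
      rw [pr_smul' ℳ hr]
      by_cases hn : n < 0
      · rw [hpos n hn, AddSubgroup.mem_bot] at hr
        rw [hr, zero_smul]
      · rw [hx (i - n) (by omega), smul_zero]

lemma ge_isHomogeneous (j : ℤ) : (ge hpos ℳ j).IsHomogeneous ℳ := by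
  rw [isHomogeneous_iff ℳ]
  intro n x hx i hi
  by_cases h : n = i
  · subst h
    rw [pr_of_mem (pr_mem ℳ n x)]
    exact hx n hi
  · rw [pr_of_mem_ne (pr_mem ℳ n x) h]

include hpos h0 hm in
/-- Every `R_0`-linear map `M_j → E'_0` extends to a homogeneous map `M → E'`. -/
theorem exists_extend (he : IsStarInjHull 𝒜 (quotGr 𝒜 m) 𝓔 e) {d j : ℤ} (hjd : j + d = 0)
    (l : comp 𝒜 ℳ j →ₗ[deg0 𝒜] comp 𝒜 𝓔 0) :
    ∃ f : M →ₗ[R] E', IsGrHomDeg ℳ 𝓔 f d ∧ ∀ x : comp 𝒜 ℳ j, f x = l x := by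
  have hess := he.toIsStarEss
  obtain ⟨N, hNdef⟩ : ∃ N, N = ge hpos ℳ j := ⟨_, rfl⟩
  have hN : N.IsHomogeneous ℳ := hNdef ▸ ge_isHomogeneous hpos (ℳ := ℳ) j
  have hNmem : ∀ x, x ∈ N ↔ ∀ i < j, pr ℳ i x = 0 := fun x => by rw [hNdef]; rfl
  let g : N →ₗ[R] E' :=
    { toFun := fun x => (l (cpt 𝒜 ℳ j (x : M)) : E')
      map_add' := fun x y => by
        rw [Submodule.coe_add, map_add, map_add]; rfl
      map_smul' := fun r x => by
        rw [RingHom.id_apply, Submodule.coe_smul]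
        obtain ⟨x, hx⟩ := x
        simp only
        induction r using induction 𝒜 with
        | h0 => rw [zero_smul, zero_smul, map_zero, map_zero]; rfl
        | hadd a b ha hb => rw [add_smul, add_smul, map_add, map_add, ← ha, ← hb]; rfl
        | hom n r hr =>
          rcases lt_trichotomy n 0 with hn | hn | hn
          · rw [hpos n hn, AddSubgroup.mem_bot] at hr
            subst hr
            rw [zero_smul, zero_smul, map_zero, map_zero]; rfl
          · subst hn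
            have h1 : cpt 𝒜 ℳ j (r • x) = (⟨r, hr⟩ : deg0 𝒜) • cpt 𝒜 ℳ j x :=
              map_smul (cpt 𝒜 ℳ j) (⟨r, hr⟩ : deg0 𝒜) x
            rw [h1, map_smul]; rfl
          · have h1 : cpt 𝒜 ℳ j (r • x) = 0 :=
              Subtype.ext (by
                rw [coe_cpt, pr_smul' ℳ hr, (hNmem x).1 hx (j - n) (by omega), smul_zero]; rfl)
            rw [h1, map_zero]
            symm
            exact smul_eq_zero hpos h0 hm hess (l (cpt 𝒜 ℳ j x)).2
              (K763.GrField.mem_of_pos 𝒜 hm hn hr) }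
  have hg : IsGrHomDeg (subGr ℳ N) 𝓔 g d := by
    intro i x hx
    change (l (cpt 𝒜 ℳ j (x : M)) : E') ∈ _
    by_cases hi : i = j
    · subst hi
      rw [hjd]
      exact (l (cpt 𝒜 ℳ i (x : M))).2
    · rw [cpt_of_mem_ne (𝒜 := 𝒜) (ℳ := ℳ) (show (x : M) ∈ ℳ i from hx) hi, map_zero]
      exact zero_mem _
  letI := subDec ℳ hN
  letI := subGSMul 𝒜 ℳ N
  obtain ⟨f, hf, hfg⟩ := K761.Baer.extend_deg 𝒜 he.starInj (subMod 𝒜 ℳ hN) (GMod.of 𝒜 M ℳ) N.subtype
    (fun n x hx => hx) (Submodule.injective_subtype _) d g hg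
  have hf' : IsGrHomDeg ℳ 𝓔 (f : M →ₗ[R] E') d := hf
  refine ⟨f, hf', fun x => ?_⟩
  have hxN : (x : M) ∈ N := by
    rw [hNmem]
    intro i hi
    exact pr_of_mem_ne x.2 (by omega)
  have h2 : (f : M →ₗ[R] E') (x : M) = g ⟨x, hxN⟩ := LinearMap.congr_fun hfg (⟨x, hxN⟩ : N)
  refine h2.trans ?_
  change (l (cpt 𝒜 ℳ j (x : M)) : E') = _
  rw [cpt_of_mem]

end Ext

end K763.Mat
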