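import Mathlib.Algebra.Polynomial.AlgebraMap
import Mathlib.LinearAlgebra.Dimension.Finrank
import Mathlib.LinearAlgebra.Dimension.StrongRankCondition
import Mathlib.LinearAlgebra.Matrix.ToLin
import Mathlib.LinearAlgebra.InvariantBasisNumber
import Mathlib.LinearAlgebra.FreeModule.StrongRankCondition
import Mathlib.Algebra.MvPolynomial.Basic

/-!
# A generic linear form: comparison of dimensions by McCoy's theorem
-/

set_option autoImplicit false
set_option linter.unusedSectionVars false
set_option linter.unusedVariables false
universe u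

open Polynomial

namespace K763.McCoy

variable {k R : Type u} [CommRing k] [Nontrivial k] [CommRing R] [Algebra k R]

/-- `ι(v) = ∑ v_j b_j` in `R[X]` -/
noncomputable def emb {p : ℕ} (b : Fin p → R) (v : Fin p → k[X]) : R[X] :=
  ∑ j, (v j).map (algebraMap k R) * C (b j)

lemma coeff_emb {p : ℕ} (b : Fin p → R) (v : Fin p → k[X]) (n : ℕ) :
    (emb b v).coeff n = ∑ j, (v j).coeff n • b j := by
  simp only [emb, finsetSum_coeff, coeff_mul_C, coeff_map, Algebra.smul_def]

lemma emb_injective {p : ℕ} {b : Fin p → R} (hb : LinearIndependent k b) :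
    ∀ v : Fin p → k[X], emb b v = 0 → v = 0 := by
  intro v hv
  funext j
  ext n
  have h1 : (emb b v).coeff n = 0 := by rw [hv, coeff_zero]
  rw [coeff_emb] at h1
  simpa using (Fintype.linearIndependent_iff.1 hb (fun j => (v j).coeff n) h1 j)

/-- McCoy: if no nonzero element is killed by all `x i` and `x i b j` is in the span of `c` then
`card b ≤ card c`. -/
theorem le {r p q : ℕ} (x : Fin r → R) (hx : ∀ a : R, (∀ i, a * x i = 0) → a = 0)
    (b : Fin p → R) (hb : LinearIndependent k b) (c : Fin q → R)
    (hc : ∀ i j, x i * b j ∈ Submodule.span k (Set.range c)) : p ≤ q := by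
  classical
  have hc' : ∀ i j, ∃ t : Fin q → k, ∑ l, t l • c l = x i * b j := by
    intro i j
    exact (Submodule.mem_span_range_iff_exists_fun k).1 (hc i j)
  choose t ht using hc'
  let f : R[X] := ∑ i : Fin r, C (x i) * X ^ (i : ℕ)
  have hf : f ∈ nonZeroDivisors R[X] := by
    by_contra h
    obtain ⟨a, ha, h1⟩ := Polynomial.notMem_nonZeroDivisors_iff.1 h
    apply ha
    apply hx
    intro i
    have h2 : (a • f).coeff (i : ℕ) = 0 := by rw [h1, coeff_zero]
    rw [coeff_smul, smul_eq_mul, finsetSum_coeff] at h2
    rw [Finset.sum_eq_single i] at h2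
    · simpa using h2
    · intro j _ hj
      rw [coeff_C_mul, coeff_X_pow, if_neg, mul_zero]
      intro h; exact hj (Fin.ext h.symm)
    · intro h; exact absurd (Finset.mem_univ _) h
  let F : Matrix (Fin q) (Fin p) k[X] := fun l j => ∑ i : Fin r, C (t i j l) * X ^ (i : ℕ)
  have key : ∀ v : Fin p → k[X], emb c (F.mulVec v) = f * emb b v := by
    intro v
    have h1 : ∀ j, ∑ l, (F l j).map (algebraMap k R) * C (c l) = f * C (b j) := by
      intro j
      simp only [F, f, Polynomial.map_sum, Polynomial.map_mul, Polynomial.map_C,
        Polynomial.map_pow, Polynomial.map_X, Finset.sum_mul]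
      rw [Finset.sum_comm]
      refine Finset.sum_congr rfl fun i _ => ?_
      have h2 : C (x i) * X ^ (i : ℕ) * C (b j) = C (x i * b j) * X ^ (i : ℕ) := by
        rw [C_mul]; ring
      rw [h2, ← ht i j, map_sum, Finset.sum_mul]
      refine Finset.sum_congr rfl fun l _ => ?_
      rw [Algebra.smul_def, C_mul]; ring
    calc emb c (F.mulVec v) = ∑ l, (∑ j, (F l j).map (algebraMap k R) * (v j).map (algebraMap k R)) *
          C (c l) := by
            simp only [emb, Matrix.mulVec, dotProduct, Polynomial.map_sum, Polynomial.map_mul]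
      _ = ∑ j, (v j).map (algebraMap k R) * (∑ l, (F l j).map (algebraMap k R) * C (c l)) := by
            simp only [Finset.sum_mul, Finset.mul_sum]
            rw [Finset.sum_comm]
            refine Finset.sum_congr rfl fun j _ => Finset.sum_congr rfl fun l _ => ?_
            ring
      _ = f * emb b v := by
            simp only [h1, emb, Finset.mul_sum]
            refine Finset.sum_congr rfl fun j _ => ?_
            ring
  have hinj : Function.Injective (Matrix.mulVecLin F) := by
    rw [injective_iff_map_eq_zero]
    intro v hv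
    rw [Matrix.mulVecLin_apply] at hv
    have h1 := key v
    rw [hv] at h1
    have h2 : emb c (0 : Fin q → k[X]) = 0 := by simp [emb]
    rw [h2] at h1
    have h3 : emb b v = 0 := by
      rw [mul_comm] at h1
      exact (mem_nonZeroDivisors_iff_right.1 hf) _ h1.symm
    exact emb_injective hb v h3
  exact le_of_fin_injective k[X] _ hinj

end K763.McCoy
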