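import Groth.Agent.GrLC.K763.Mat
import Groth.Agent.GrLC.K763.FinComp
import Groth.Agent.GrLC.K763.HGr
import Groth.Agent.GrLC.K760.Gr2
import Groth.Agent.GrLC.K759.Hgr
import Mathlib.LinearAlgebra.Dual.Lemmas

/-!
# The perfect pairing between a *canonical module and the top local cohomology

`R` Noetherian, nonnegatively graded, `R_0` a field, `m = R_+`, `e : R/m → E'` a *injective hull, `C` a
f.g. graded module, `Φ : Hom_R(C, E') ≃ H` homogeneous. Then `B(h, c) = (Φ⁻¹(h)(c))_0 ∈ E'_0` is a perfect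
pairing in the graded sense.
-/

set_option autoImplicit false
set_option linter.unusedSectionVars false
set_option linter.unusedVariables false
set_option linter.style.haveILetI false
universe u

open DirectSum GrLC K761.Gr

namespace K763.PairC

variable {R : Type u} [CommRing R] (𝒜 : ℤ → AddSubgroup R) [GradedRing 𝒜]
variable {H : Type u} [AddCommGroup H] [Module R H] (ℋ : ℤ → AddSubgroup H) [Decomposition ℋ]
  [SetLike.GradedSMul 𝒜 ℋ]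
variable {C : Type u} [AddCommGroup C] [Module R C] (𝒞 : ℤ → AddSubgroup C) [Decomposition 𝒞]
  [SetLike.GradedSMul 𝒜 𝒞]
variable {W : Type u} [AddCommGroup W] [Module (deg0 𝒜) W]

/-- A perfect graded pairing of `H` and `C` with values in `W` (over `R_0`). -/
structure IsPP (B : H →ₗ[deg0 𝒜] C →ₗ[deg0 𝒜] W) : Prop where
  adj : ∀ (r : R) (h : H) (c : C), B (r • h) c = B h (r • c)
  homog : ∀ (i j : ℤ) (h : H) (c : C), h ∈ ℋ i → c ∈ 𝒞 j → i + j ≠ 0 → B h c = 0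
  ndl : ∀ (i j : ℤ), i + j = 0 → ∀ h ∈ ℋ i, (∀ c ∈ 𝒞 j, B h c = 0) → h = 0
  ndr : ∀ (i j : ℤ), i + j = 0 → ∀ c ∈ 𝒞 j, (∀ h ∈ ℋ i, B h c = 0) → c = 0
  perfr : ∀ (i j : ℤ), i + j = 0 → ∀ l : comp 𝒜 ℋ i →ₗ[deg0 𝒜] W, ∃ c ∈ 𝒞 j,
    ∀ h : comp 𝒜 ℋ i, B h c = l h
  perfl : ∀ (i j : ℤ), i + j = 0 → ∀ l : comp 𝒜 𝒞 j →ₗ[deg0 𝒜] W, ∃ h ∈ ℋ i,
    ∀ c : comp 𝒜 𝒞 j, B h c = l c

/-- reflexivity of finite dimensional spaces, with values in a one dimensional space -/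
theorem exists_eval {k : Type u} [Field k] {V W : Type u} [AddCommGroup V] [Module k V]
    [Module.Finite k V] [AddCommGroup W] [Module k W] (ε : k ≃ₗ[k] W)
    (l : (V →ₗ[k] W) →ₗ[k] W) : ∃ v : V, ∀ f : V →ₗ[k] W, f v = l f := by
  let l' : Module.Dual k (Module.Dual k V) :=
    ε.symm.toLinearMap ∘ₗ l ∘ₗ (LinearEquiv.congrRight ε).toLinearMap
  obtain ⟨v, hv⟩ := (Module.bijective_dual_eval k V).2 l'
  refine ⟨v, fun f => ?_⟩
  have h1 : ∀ g : Module.Dual k V, g v = ε.symm (l (ε.toLinearMap ∘ₗ g)) := by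
    intro g
    have := LinearMap.congr_fun hv g
    exact this
  have h2 := h1 (ε.symm.toLinearMap ∘ₗ f)
  have h3 : ε.toLinearMap ∘ₗ (ε.symm.toLinearMap ∘ₗ f) = f := by
    ext x; simp
  rw [h3] at h2
  have h4 := congrArg ε h2
  simpa using h4

variable {E' : Type u} [AddCommGroup E'] [Module R E'] (𝓔 : ℤ → AddSubgroup E')
  [Decomposition 𝓔] [SetLike.GradedSMul 𝒜 𝓔]

variable {𝒜} in
/-- the pairing -/
noncomputable def B (Φ : (C →ₗ[R] E') ≃ₗ[R] H) : H →ₗ[deg0 𝒜] C →ₗ[deg0 𝒜] comp 𝒜 𝓔 0 :=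
  LinearMap.mk₂ (deg0 𝒜) (fun h c => Mat.cpt 𝒜 𝓔 0 (Φ.symm h c))
    (fun h h' c => by rw [map_add, LinearMap.add_apply, map_add])
    (fun a h c => by
      rw [show (a • h) = (a : R) • h from rfl, map_smul, LinearMap.smul_apply,
        show (a : R) • Φ.symm h c = a • Φ.symm h c from rfl, map_smul])
    (fun h c c' => by rw [map_add, map_add])
    (fun a h c => by
      rw [show (a • c) = (a : R) • c from rfl, map_smul,
        show (a : R) • Φ.symm h c = a • Φ.symm h c from rfl, map_smul])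

lemma B_apply (Φ : (C →ₗ[R] E') ≃ₗ[R] H) (h : H) (c : C) :
    B 𝓔 Φ h c = Mat.cpt 𝒜 𝓔 0 (Φ.symm h c) := rfl

variable {𝒜 ℋ 𝒞 𝓔}

section

variable [IsNoetherianRing R] [Module.Finite R C]
variable (hpos : ∀ n : ℤ, n < 0 → 𝒜 n = ⊥) (h0 : IsField (deg0 𝒜))
variable {m : HomogeneousIdeal 𝒜} (hm : m.toIdeal = Ideal.span (⋃ n ∈ Set.Ioi (0 : ℤ), (𝒜 n : Set R)))
  {e : (R ⧸ m.toIdeal) →ₗ[R] E'}

lemma symm_mem (Φ : (C →ₗ[R] E') ≃ₗ[R] H)
    (hΦ : IsGrHom (fun d => (homDeg 𝒜 𝒞 𝓔 d).toAddSubgroup) ℋ Φ.toLinearMap) {i : ℤ} {h : H}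
    (hh : h ∈ ℋ i) : IsGrHomDeg 𝒞 𝓔 (Φ.symm h) i := by
  letI := K760.Gr.homDec 𝒜 𝒞 𝓔
  exact K760.Gr.symm_isGrHom (ℳ := K760.Gr.homGr 𝒜 𝒞 𝓔) (𝒩 := ℋ) hΦ i h hh

include hpos h0 hm in
theorem isPP (he : IsStarInjHull 𝒜 (quotGr 𝒜 m) 𝓔 e) (Φ : (C →ₗ[R] E') ≃ₗ[R] H)
    (hΦ : IsGrHom (fun d => (homDeg 𝒜 𝒞 𝓔 d).toAddSubgroup) ℋ Φ.toLinearMap) :
    IsPP 𝒜 ℋ 𝒞 (B 𝓔 Φ) := by
  have hess := he.toIsStarEss
  -- values of homogeneous elements
  have hval : ∀ (i j : ℤ), i + j = 0 → ∀ h ∈ ℋ i, ∀ c ∈ 𝒞 j, ((B (𝒜 := 𝒜) 𝓔 Φ h c : comp 𝒜 𝓔 0) : E') =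
      Φ.symm h c := by
    intro i j hij h hh c hc
    rw [B_apply, Mat.coe_cpt]
    apply pr_of_mem
    have := symm_mem Φ hΦ hh j c hc
    rwa [show j + i = 0 by omega] at this
  have hndl : ∀ (i j : ℤ), i + j = 0 → ∀ h ∈ ℋ i, (∀ c ∈ 𝒞 j, B (𝒜 := 𝒜) 𝓔 Φ h c = 0) → h = 0 := by
    intro i j hij h hh hc
    have h1 : Φ.symm h = 0 := by
      refine Mat.eq_zero_of_comp hpos h0 hm hess (ℳ := 𝒞) (d := i) (j := j) (by omega)
        (symm_mem Φ hΦ hh) ?_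
      intro c hc'
      rw [← hval i j hij h hh c hc', hc c hc']; rfl
    simpa using congrArg Φ h1
  have hperfl : ∀ (i j : ℤ), i + j = 0 → ∀ l : comp 𝒜 𝒞 j →ₗ[deg0 𝒜] comp 𝒜 𝓔 0, ∃ h ∈ ℋ i,
      ∀ c : comp 𝒜 𝒞 j, B (𝒜 := 𝒜) 𝓔 Φ h c = l c := by
    intro i j hij l
    obtain ⟨f, hf, hfl⟩ := Mat.exists_extend hpos h0 hm he (ℳ := 𝒞) (d := i) (j := j) (by omega) l
    have hΦf : Φ f ∈ ℋ i := hΦ i f hf
    refine ⟨Φ f, hΦf, fun c => ?_⟩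
    apply Subtype.ext
    rw [hval i j hij (Φ f) hΦf c c.2, ← hfl c]
    simp
  letI : Field (deg0 𝒜) := h0.toField
  let ε := Mat.zeroEquiv hpos h0 hm hess
  refine ⟨?_, ?_, hndl, ?_, ?_, hperfl⟩
  · intro r h c
    rw [B_apply, B_apply, map_smul, map_smul, LinearMap.smul_apply]
  · intro i j h c hh hc hij
    rw [B_apply]
    exact Mat.cpt_of_mem_ne (symm_mem Φ hΦ hh j c hc) (by omega)
  · intro i j hij c hc hh
    let v : comp 𝒜 𝒞 j := ⟨c, hc⟩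
    suffices hv : v = 0 from congrArg Subtype.val hv
    refine (Module.forall_dual_apply_eq_zero_iff (deg0 𝒜) v).1 fun φ => ?_
    obtain ⟨h, hh', hc'⟩ := hperfl i j hij (ε.toLinearMap ∘ₗ φ)
    have h1 := hc' v
    rw [show ((v : comp 𝒜 𝒞 j) : C) = c from rfl, hh h hh'] at h1
    have h2 : ε (φ v) = 0 := h1.symm
    simpa using h2
  · intro i j hij l
    have hfin : Module.Finite (deg0 𝒜) (comp 𝒜 𝒞 j) := FinComp.finite_comp 𝒜 𝒞 hpos j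
    let S : comp 𝒜 ℋ i →ₗ[deg0 𝒜] (comp 𝒜 𝒞 j →ₗ[deg0 𝒜] comp 𝒜 𝓔 0) :=
      { toFun := fun h => (B 𝓔 Φ (h : H)) ∘ₗ (comp 𝒜 𝒞 j).subtype
        map_add' := fun x y => by ext c; simp
        map_smul' := fun a x => by ext c; simp }
    have hS : Function.Bijective S := by
      constructor
      · rw [injective_iff_map_eq_zero]
        intro h hh
        refine Subtype.ext (hndl i j hij h h.2 fun c hc => ?_)
        exact LinearMap.congr_fun hh (⟨c, hc⟩ : comp 𝒜 𝒞 j)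
      · intro f
        obtain ⟨h, hh, hf⟩ := hperfl i j hij f
        exact ⟨⟨h, hh⟩, LinearMap.ext fun c => hf c⟩
    let Se := LinearEquiv.ofBijective S hS
    obtain ⟨v, hv⟩ := exists_eval (k := deg0 𝒜) (V := comp 𝒜 𝒞 j) ε (l ∘ₗ Se.symm.toLinearMap)
    refine ⟨v, v.2, fun h => ?_⟩
    have h1 := hv (S h)
    rw [LinearMap.comp_apply] at h1
    have h2 : Se.symm (S h) = h := Se.symm_apply_apply h
    rw [LinearEquiv.coe_coe, h2] at h1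
    exact h1

end

end K763.PairC
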