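import Groth.Agent.Localalg.LCBasic
import Groth.Agent.Localalg.LCIface

/-!
# `I H^r_I(M) = H^r_I(M)` for `r ≥ 1` the top index
-/

set_option autoImplicit false
set_option linter.unusedSectionVars false
universe u

open Groth.Agent.Localalg

namespace K763.TopH

variable {R : Type u} [CommRing R] (I : Ideal R) {M : Type u} [AddCommGroup M] [Module R M]

lemma hmap_eq (i : ℕ) {N : Type u} [AddCommGroup N] [Module R N] (f : M →ₗ[R] N)
    (x : LocCoh.H I i M) : Groth.Agent.Dix.TopLC.hmap I i f x = LCBasic.Hmap I i f x := rfl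

lemma Hmap_sum (i : ℕ) {N : Type u} [AddCommGroup N] [Module R N] {κ : Type*} (s : Finset κ)
    (f : κ → M →ₗ[R] N) (x : LocCoh.H I i M) :
    LCBasic.Hmap I i (∑ j ∈ s, f j) x = ∑ j ∈ s, LCBasic.Hmap I i (f j) x := by
  classical
  induction s using Finset.induction_on with
  | empty => rw [Finset.sum_empty, Finset.sum_empty, LCBasic.Hmap_zero]
  | insert j s hj ih =>
    rw [Finset.sum_insert hj, Finset.sum_insert hj, LCBasic.Hmap_add, ih]

variable [IsNoetherianRing R]

/-- `I H^r_I(M) = H^r_I(M)` if `r ≥ 1` and `H^{r+1}_I` vanishes on finite modules. -/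
theorem smul_top_eq_top (r : ℕ) (hr : 1 ≤ r)
    (hvan : ∀ (N : Type u) [AddCommGroup N] [Module R N] [Module.Finite R N],
      Subsingleton (LocCoh.H I (r + 1) N)) [Module.Finite R M] :
    I • (⊤ : Submodule R (LocCoh.H I r M)) = ⊤ := by
  classical
  obtain ⟨s, hs⟩ := (IsNoetherian.noetherian I : I.FG)
  have hsI : ∀ f ∈ s, f ∈ I := fun f hf => by rw [← hs]; exact Ideal.subset_span hf
  rw [eq_top_iff]
  intro x _
  -- `H^r(M) → H^r(M/IM) = 0`
  have h1 : Subsingleton (LocCoh.H I r (M ⧸ I • (⊤ : Submodule R M))) := by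
    refine LCIface.subsingleton_H_of_torsion I _ (fun y => ?_) r (by omega)
    refine ⟨1, fun a ha => ?_⟩
    obtain ⟨y, rfl⟩ := (I • (⊤ : Submodule R M)).mkQ_surjective y
    rw [← map_smul, Submodule.mkQ_apply, Submodule.Quotient.mk_eq_zero]
    rw [pow_one] at ha
    exact Submodule.smul_mem_smul ha trivial
  have h2 := LCBasic.exact₂ I (I • (⊤ : Submodule R M)).subtype (I • (⊤ : Submodule R M)).mkQ
    (Submodule.injective_subtype _) (Submodule.mkQ_surjective _)
    (LinearMap.exact_subtype_mkQ _) r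
  obtain ⟨y, rfl⟩ := (h2 x).1 (Subsingleton.elim _ _)
  -- the surjection `M^s → IM`
  let F0 : (s → M) →ₗ[R] M := ∑ f : s, (f : R) • LinearMap.proj f
  have hF0 : ∀ v, F0 v ∈ I • (⊤ : Submodule R M) := by
    intro v
    simp only [F0, LinearMap.sum_apply, LinearMap.smul_apply, LinearMap.proj_apply]
    exact Submodule.sum_mem _ fun f _ => Submodule.smul_mem_smul (hsI f f.2) trivial
  let F : (s → M) →ₗ[R] (I • (⊤ : Submodule R M) : Submodule R M) := F0.codRestrict _ hF0
  have hF1 : I • (⊤ : Submodule R M) ≤ LinearMap.range F0 := by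
    rw [Submodule.smul_le]
    intro r hr n _
    rw [← hs] at hr
    induction hr using Submodule.span_induction with
    | mem f hf =>
      refine ⟨Pi.single (⟨f, hf⟩ : s) n, ?_⟩
      simp only [F0, LinearMap.sum_apply, LinearMap.smul_apply, LinearMap.proj_apply]
      rw [Finset.sum_eq_single (⟨f, hf⟩ : s)]
      · rw [Pi.single_eq_same]
      · intro g _ hg
        rw [Pi.single_eq_of_ne hg, smul_zero]
      · intro h; exact absurd (Finset.mem_univ _) h
    | zero => rw [zero_smul]; exact zero_mem _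
    | add f g _ _ hf hg => rw [add_smul]; exact add_mem hf hg
    | smul c f _ hf => rw [smul_assoc]; exact Submodule.smul_mem _ _ hf
  have hF : Function.Surjective F := by
    rintro ⟨z, hz⟩
    obtain ⟨v, hv⟩ := hF1 hz
    exact ⟨v, Subtype.ext hv⟩
  have h3 : Subsingleton (LocCoh.H I (r + 1) (LinearMap.ker F)) := hvan _
  have h4 := LCBasic.exact₃ I (LinearMap.ker F).subtype F (Submodule.injective_subtype _) hF
    (LinearMap.exact_subtype_ker_map F) r
  obtain ⟨z, rfl⟩ := (h4 y).1 (Subsingleton.elim _ _)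
  rw [← LCBasic.Hmap_comp]
  have h5 : (I • (⊤ : Submodule R M)).subtype ∘ₗ F = ∑ f : s, (f : R) • LinearMap.proj f := rfl
  rw [h5, Hmap_sum]
  refine Submodule.sum_mem _ fun f _ => ?_
  rw [LCBasic.Hmap_smul]
  exact Submodule.smul_mem_smul (hsI f f.2) trivial

/-- The case of the Krull dimension. -/
theorem smul_top_eq_top_of_dim (r : ℕ) (hr : 1 ≤ r) (hd : ringKrullDim R ≤ r)
    [Module.Finite R M] : I • (⊤ : Submodule R (LocCoh.H I r M)) = ⊤ := by
  refine smul_top_eq_top I r hr (fun N _ _ _ => ?_)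
  refine LCIface.subsingleton_of_supportDim_lt I N (r + 1) ?_
  refine lt_of_le_of_lt ((Module.supportDim_le_ringKrullDim R N).trans hd) ?_
  exact_mod_cast Nat.lt_succ_self r

end K763.TopH
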