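import Groth.Agent.GrLC.K762.Ext
import Groth.Agent.GrLC.K762.Fld
import Groth.Agent.GrLC.K763.TopH
import Mathlib.RingTheory.KrullDimension.NonZeroDivisors

/-!
# Surjectivity of nonzerodivisors on the top local cohomology; a pencil of nonzerodivisors
-/

set_option autoImplicit false
set_option linter.unusedSectionVars false
set_option linter.unusedVariables false
universe u

open GrLC Groth.Agent.Localalg K762.Base RingTheory.Sequence

namespace K763.SurjTop

variable {R : Type u} [CommRing R] [IsNoetherianRing R]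

/-- a nonzerodivisor acts surjectively on `H^n_I(R)`, `n = dim R`. -/
theorem exists_smul_eq (I : Ideal R) (n : ℕ) (hn : ringKrullDim R = n) (g : R)
    (hg : g ∈ nonZeroDivisors R) (y : LocCoh.H I n R) : ∃ x : LocCoh.H I n R, g • x = y := by
  have hinj : Function.Injective (LinearMap.lsmul R R g) := by
    rw [injective_iff_map_eq_zero]
    intro x hx
    have hx' : g * x = 0 := hx
    rw [mul_comm] at hx'
    exact (mem_nonZeroDivisors_iff_right.1 hg) x hx'
  have hrange : LinearMap.range (LinearMap.lsmul R R g) = Ideal.span {g} := by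
    ext x
    rw [LinearMap.mem_range, Ideal.mem_span_singleton']
    constructor
    · rintro ⟨y, rfl⟩; exact ⟨y, mul_comm _ _⟩
    · rintro ⟨y, rfl⟩; exact ⟨y, mul_comm _ _⟩
  have hex : Function.Exact (LinearMap.lsmul R R g) (Ideal.span {g}).mkQ := by
    rw [LinearMap.exact_iff, Submodule.ker_mkQ, hrange]
  have hdim : Module.supportDim R (R ⧸ Ideal.span {g}) < n := by
    rw [Module.supportDim_quotient_eq_ringKrullDim]
    have h1 := ringKrullDim_quotient_succ_le_of_nonZeroDivisor hg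
    rw [hn] at h1
    by_contra hcon
    rw [not_lt] at hcon
    have h2 : ((n : WithBot ℕ∞)) + 1 ≤ n := (add_le_add_left hcon 1).trans h1
    have h3 : (((n + 1 : ℕ) : WithBot ℕ∞)) ≤ ((n : ℕ) : WithBot ℕ∞) := by
      push_cast; exact h2
    have h4 : n + 1 ≤ n := by exact_mod_cast h3
    omega
  have hsub : Subsingleton (LocCoh.H I n (R ⧸ Ideal.span {g})) :=
    LCIface.subsingleton_of_supportDim_lt I _ n hdim
  have h1 := LCBasic.exact₂ I (LinearMap.lsmul R R g) (Ideal.span {g}).mkQ hinj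
    (Submodule.mkQ_surjective _) hex n
  obtain ⟨x, hx⟩ := (h1 y).1 (Subsingleton.elim _ _)
  refine ⟨x, ?_⟩
  rw [← hx]
  exact (LCBasic.Hmap_lsmul I n g x).symm

section Pencil

omit [IsNoetherianRing R]

variable {k : Type u} [Field k] [Algebra k R] {𝒜 : ℤ → AddSubgroup R} [GradedRing 𝒜]
  {m : Ideal R}

theorem first_mem (h : PosField k 𝒜 m) [LocCoh.IsCohenMacaulayRing R] {n : ℕ}
    (hn : ringKrullDim R = n) (i0 : Fin n) (hi0 : (i0 : ℕ) = 0) {D : ℤ} (hD : 0 < D) {θ : Fin n → R}
    (hθ : ∀ i, θ i ∈ 𝒜 D) {N : ℕ} (hN : m ^ N ≤ Ideal.span (Set.range θ)) :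
    θ i0 ∈ nonZeroDivisors R := by
  have h1 := K762.Reg.isWeaklyRegular_of_cm h hn hθ (fun _ => hD) hN
  rw [K762.Reg.isWeaklyRegular_ofFn_iff] at h1
  have h2 := h1 i0
  rw [hi0, K762.Reg.pre_zero, Submodule.bot_smul] at h2
  rw [mem_nonZeroDivisors_iff_right]
  intro x hx
  have h3 := h2 x (by rw [Submodule.mem_bot, smul_eq_mul, mul_comm, hx])
  exact (Submodule.mem_bot R).1 h3

/-- a pencil of homogeneous nonzerodivisors -/
theorem exists_pencil (h : PosField k 𝒜 m) [LocCoh.IsCohenMacaulayRing R] {n : ℕ}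
    (hn : ringKrullDim R = n) (h2 : 2 ≤ n) {q : ℕ} (hq : 0 < q) :
    ∃ D : ℤ, 0 < D ∧ (q : ℤ) ∣ D ∧ ∃ s t : R, s ∈ 𝒜 D ∧ t ∈ 𝒜 D ∧
      ∀ α β : k, (α ≠ 0 ∨ β ≠ 0) → α • s + β • t ∈ nonZeroDivisors R := by
  classical
  obtain ⟨D, hD, -, hqD, θ, hθ, ⟨N, hN⟩, -⟩ := K762.Ext.exists_parameters h hn hq 0
  have hsm : ∀ (c : k) (x : R), x ∈ 𝒜 D → c • x ∈ 𝒜 D := by
    intro c x hx
    rw [Algebra.smul_def]
    have := SetLike.GradedMul.mul_mem (A := 𝒜) (h.alg c) hx
    rwa [zero_add] at this
  let i0 : Fin n := ⟨0, by omega⟩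
  let i1 : Fin n := ⟨1, by omega⟩
  have h01 : i0 ≠ i1 := by
    intro h; have := congrArg Fin.val h; simp [i0, i1] at this
  refine ⟨D, hD, hqD, θ i0, θ i1, hθ _, hθ _, fun α β hαβ => ?_⟩
  by_cases hα : α = 0
  · subst hα
    have hβ : β ≠ 0 := by simpa using hαβ
    rw [zero_smul, zero_add]
    let θ' : Fin n → R := Function.update (θ ∘ Equiv.swap i0 i1) i0 (β • θ i1)
    have h3 : θ' i0 = β • θ i1 := Function.update_self _ _ _
    rw [← h3]
    refine first_mem h hn i0 rfl hD (N := N) ?_ ?_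
    · intro i
      by_cases hi : i = i0
      · rw [hi, h3]; exact hsm _ _ (hθ _)
      · rw [show θ' i = (θ ∘ Equiv.swap i0 i1) i from Function.update_of_ne hi _ _]; exact hθ _
    · refine hN.trans ?_
      rw [Ideal.span_le]
      rintro _ ⟨i, rfl⟩
      by_cases hi1 : i = i1
      · subst hi1
        have : θ i1 = (algebraMap k R β⁻¹) * θ' i0 := by
          rw [h3, ← Algebra.smul_def, smul_smul, inv_mul_cancel₀ hβ, one_smul]
        change θ i1 ∈ Ideal.span (Set.range θ')
        rw [this]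
        exact Ideal.mul_mem_left _ _ (Ideal.subset_span ⟨i0, rfl⟩)
      · have h4 : θ' (Equiv.swap i0 i1 i) = θ i := by
          have hne : Equiv.swap i0 i1 i ≠ i0 := by
            intro h
            have := congrArg (Equiv.swap i0 i1) h
            rw [Equiv.swap_apply_self, Equiv.swap_apply_left] at this
            exact hi1 this
          rw [show θ' (Equiv.swap i0 i1 i) = (θ ∘ Equiv.swap i0 i1) (Equiv.swap i0 i1 i) from
            Function.update_of_ne hne _ _]
          simp
        exact Ideal.subset_span ⟨_, h4⟩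
  · let θ' : Fin n → R := Function.update θ i0 (α • θ i0 + β • θ i1)
    have h3 : θ' i0 = α • θ i0 + β • θ i1 := Function.update_self _ _ _
    have h4 : ∀ i, i ≠ i0 → θ' i = θ i := fun i hi => Function.update_of_ne hi _ _
    rw [← h3]
    refine first_mem h hn i0 rfl hD (N := N) ?_ ?_
    · intro i
      by_cases hi : i = i0
      · rw [hi, h3]; exact add_mem (hsm _ _ (hθ _)) (hsm _ _ (hθ _))
      · rw [h4 i hi]; exact hθ _
    · refine hN.trans ?_
      rw [Ideal.span_le]
      rintro _ ⟨i, rfl⟩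
      by_cases hi : i = i0
      · subst hi
        have : θ i0 = (algebraMap k R α⁻¹) * (θ' i0 - algebraMap k R β * θ' i1) := by
          rw [h3, h4 i1 h01.symm, ← Algebra.smul_def, ← Algebra.smul_def, add_sub_cancel_right,
            smul_smul, inv_mul_cancel₀ hα, one_smul]
        change θ i0 ∈ Ideal.span (Set.range θ')
        rw [this]
        exact Ideal.mul_mem_left _ _ (sub_mem (Ideal.subset_span ⟨i0, rfl⟩)
          (Ideal.mul_mem_left _ _ (Ideal.subset_span ⟨i1, rfl⟩)))
      · exact Ideal.subset_span ⟨i, h4 i hi⟩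

end Pencil

end K763.SurjTop
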