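import Groth.Agent.GrLC.K763.Basic
import Groth.Agent.GrLC.K963.Dec
import Mathlib.RingTheory.Noetherian.Basic
import Mathlib.RingTheory.Finiteness.Ideal

/-!
# Veronese submodules
-/

set_option autoImplicit false
set_option linter.unusedSectionVars false
universe u

open DirectSum K963.Dec K763.Basic

namespace K763.Ver

section Cut

variable {M : Type u} [AddCommGroup M] (ℳ : ℤ → AddSubgroup M) [DirectSum.Decomposition ℳ] (q : ℕ)

open scoped Classical in
/-- The sum of the components of degree divisible by `q`. -/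
noncomputable def cut : M →+ M :=
  (DirectSum.toAddMonoid (fun n : ℤ => if (q : ℤ) ∣ n then (ℳ n).subtype else 0)).comp
    (DirectSum.decomposeAddEquiv ℳ).toAddMonoidHom

lemma cut_of_mem {n : ℤ} {x : M} (hx : x ∈ ℳ n) (h : (q : ℤ) ∣ n) : cut ℳ q x = x := by
  lift x to ℳ n using hx
  simp only [cut, AddMonoidHom.comp_apply, AddEquiv.toAddMonoidHom_eq_coe, AddMonoidHom.coe_coe,
    DirectSum.decomposeAddEquiv_apply, DirectSum.decompose_coe, DirectSum.toAddMonoid_of, if_pos h]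
  rfl

lemma cut_of_mem_not {n : ℤ} {x : M} (hx : x ∈ ℳ n) (h : ¬ (q : ℤ) ∣ n) : cut ℳ q x = 0 := by
  lift x to ℳ n using hx
  simp only [cut, AddMonoidHom.comp_apply, AddEquiv.toAddMonoidHom_eq_coe, AddMonoidHom.coe_coe,
    DirectSum.decomposeAddEquiv_apply, DirectSum.decompose_coe, DirectSum.toAddMonoid_of, if_neg h]
  rfl

open scoped Classical in
lemma proj_cut (n : ℤ) (x : M) :
    proj ℳ n (cut ℳ q x) = if (q : ℤ) ∣ n then proj ℳ n x else 0 := by
  induction x using DirectSum.Decomposition.inductionOn ℳ with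
  | zero => simp
  | @homogeneous j x =>
    by_cases h : (q : ℤ) ∣ j
    · rw [cut_of_mem ℳ q x.2 h]
      by_cases hj : j = n
      · subst hj; rw [if_pos h]
      · rw [proj_of_mem_ne ℳ x.2 hj, ite_self]
    · rw [cut_of_mem_not ℳ q x.2 h, map_zero]
      by_cases hj : j = n
      · subst hj; rw [if_neg h]
      · rw [proj_of_mem_ne ℳ x.2 hj, ite_self]
  | add x y hx hy =>
    rw [map_add, map_add, hx, hy, map_add]
    split_ifs
    · rfl
    · rw [add_zero]

lemma cut_eq_self_iff {x : M} : cut ℳ q x = x ↔ ∀ n : ℤ, ¬ (q : ℤ) ∣ n → proj ℳ n x = 0 := by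
  classical
  constructor
  · intro h n hn
    rw [← h, proj_cut, if_neg hn]
  · intro h
    refine ext_proj ℳ fun n => ?_
    rw [proj_cut]
    split_ifs with hn
    · rfl
    · exact (h n hn).symm

lemma proj_cut_not {n : ℤ} (hn : ¬ (q : ℤ) ∣ n) (x : M) : proj ℳ n (cut ℳ q x) = 0 := by
  classical
  rw [proj_cut, if_neg hn]

lemma cut_cut (x : M) : cut ℳ q (cut ℳ q x) = cut ℳ q x := by
  rw [cut_eq_self_iff]
  exact fun n hn => proj_cut_not ℳ q hn x

lemma cut_mem {n : ℤ} {x : M} (hx : x ∈ ℳ n) : cut ℳ q x ∈ ℳ n := by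
  by_cases h : (q : ℤ) ∣ n
  · rwa [cut_of_mem ℳ q hx h]
  · rw [cut_of_mem_not ℳ q hx h]; exact zero_mem _

end Cut

section CutHom

variable {M : Type u} [AddCommGroup M] (ℳ : ℤ → AddSubgroup M) [DirectSum.Decomposition ℳ]
variable {N : Type u} [AddCommGroup N] (𝒩 : ℤ → AddSubgroup N) [DirectSum.Decomposition 𝒩] (q : ℕ)

lemma map_cut {F : Type*} [FunLike F M N] [AddMonoidHomClass F M N] (f : F)
    (hf : ∀ g x, x ∈ ℳ g → f x ∈ 𝒩 g) (x : M) : f (cut ℳ q x) = cut 𝒩 q (f x) := by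
  induction x using DirectSum.Decomposition.inductionOn ℳ with
  | zero => simp
  | @homogeneous j x =>
    by_cases h : (q : ℤ) ∣ j
    · rw [cut_of_mem ℳ q x.2 h, cut_of_mem 𝒩 q (hf _ _ x.2) h]
    · rw [cut_of_mem_not ℳ q x.2 h, cut_of_mem_not 𝒩 q (hf _ _ x.2) h, map_zero]
  | add x y hx hy => rw [map_add, map_add, hx, hy, map_add, map_add]

end CutHom

section CutSmul

variable {R : Type u} [CommRing R] (𝒜 : ℤ → AddSubgroup R) [GradedRing 𝒜]
variable {M : Type u} [AddCommGroup M] [Module R M] (ℳ : ℤ → AddSubgroup M)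
  [DirectSum.Decomposition ℳ] [SetLike.GradedSMul 𝒜 ℳ] (q : ℕ)

lemma cut_smul_of_mem {j : ℤ} {r : R} (hr : r ∈ 𝒜 (j * q)) (x : M) :
    cut ℳ q (r • x) = r • cut ℳ q x := by
  induction x using DirectSum.Decomposition.inductionOn ℳ with
  | zero => simp
  | @homogeneous i x =>
    have h1 : r • (x : M) ∈ ℳ (j * q + i) := smul_mem 𝒜 ℳ hr x.2
    by_cases h : (q : ℤ) ∣ i
    · rw [cut_of_mem ℳ q x.2 h, cut_of_mem ℳ q h1 (dvd_add (Dvd.intro_left _ rfl) h)]
    · rw [cut_of_mem_not ℳ q x.2 h, cut_of_mem_not ℳ q h1, smul_zero]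
      rwa [dvd_add_right (Dvd.intro_left _ rfl)]
  | add x y hx hy => rw [smul_add, map_add, map_add, hx, hy, smul_add]

lemma cut_smul {r : R} (hr : cut 𝒜 q r = r) (x : M) :
    cut ℳ q (r • x) = r • cut ℳ q x := by
  classical
  obtain ⟨s, hs, hrs⟩ := sum_proj 𝒜 r
  rw [hrs, Finset.sum_smul, Finset.sum_smul, map_sum]
  refine Finset.sum_congr rfl fun n _ => ?_
  by_cases hn : (q : ℤ) ∣ n
  · obtain ⟨j, rfl⟩ := hn
    exact cut_smul_of_mem 𝒜 ℳ q (j := j) (by rw [mul_comm j]; exact proj_mem 𝒜 _ r) x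
  · rw [(cut_eq_self_iff 𝒜 q).1 hr n hn, zero_smul, zero_smul, map_zero]

end CutSmul

section IsVer

variable {R : Type u} [CommRing R] {R' : Type u} [CommRing R'] (φ : R' →+* R) (q : ℕ)
variable {M : Type u} [AddCommGroup M] [Module R M] (ℳ : ℤ → AddSubgroup M)
variable {M' : Type u} [AddCommGroup M'] [Module R' M'] (ℳ' : ℤ → AddSubgroup M')

/-- `M'` is the Veronese submodule `⊕ M_{jq}` of `M` through the semilinear injection `g`. -/
structure IsVer (g : M' →ₛₗ[φ] M) : Prop where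
  inj : Function.Injective g
  deg : ∀ j : ℤ, (ℳ' j).map (g : M' →+ M) = ℳ (j * q)

end IsVer

/-- Standing data: `R'` is the Veronese subring of `R` through `φ`. -/
structure Data {R : Type u} [CommRing R] (𝒜 : ℤ → AddSubgroup R) {R' : Type u} [CommRing R']
    (𝒜' : ℤ → AddSubgroup R') (φ : R' →+* R) (q : ℕ) : Prop where
  pos : 0 < q
  inj : Function.Injective φ
  deg : ∀ j : ℤ, (𝒜' j).map (φ : R' →+ R) = 𝒜 (j * q)

section IsVer2

variable {R : Type u} [CommRing R] {R' : Type u} [CommRing R'] {φ : R' →+* R} {q : ℕ}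
variable {M : Type u} [AddCommGroup M] [Module R M] {ℳ : ℤ → AddSubgroup M}
variable {M' : Type u} [AddCommGroup M'] [Module R' M'] {ℳ' : ℤ → AddSubgroup M'}
variable {g : M' →ₛₗ[φ] M}

lemma IsVer.map_mem (h : IsVer φ q ℳ ℳ' g) {j : ℤ} {x : M'} (hx : x ∈ ℳ' j) :
    g x ∈ ℳ (j * q) := by
  rw [← h.deg j]; exact AddSubgroup.mem_map_of_mem _ hx

lemma IsVer.exists_eq (h : IsVer φ q ℳ ℳ' g) {j : ℤ} {y : M} (hy : y ∈ ℳ (j * q)) :
    ∃ x ∈ ℳ' j, g x = y := by
  rw [← h.deg j] at hy; exact hy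

lemma IsVer.mem_iff (h : IsVer φ q ℳ ℳ' g) {j : ℤ} {x : M'} :
    g x ∈ ℳ (j * q) ↔ x ∈ ℳ' j := by
  refine ⟨fun hx => ?_, h.map_mem⟩
  obtain ⟨y, hy, e⟩ := h.exists_eq hx
  rwa [← h.inj e]

variable [DirectSum.Decomposition ℳ] [DirectSum.Decomposition ℳ']

lemma IsVer.cut_apply (h : IsVer φ q ℳ ℳ' g) (x : M') : cut ℳ q (g x) = g x := by
  induction x using DirectSum.Decomposition.inductionOn ℳ' with
  | zero => simp
  | @homogeneous j x => exact cut_of_mem ℳ q (h.map_mem x.2) (Dvd.intro_left _ rfl)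
  | add x y hx hy => rw [map_add, map_add, hx, hy]

lemma IsVer.proj_apply (h : IsVer φ q ℳ ℳ' g) (hq : 0 < q) (j : ℤ) (x : M') :
    proj ℳ (j * q) (g x) = g (proj ℳ' j x) := by
  induction x using DirectSum.Decomposition.inductionOn ℳ' with
  | zero => simp
  | @homogeneous i x =>
    by_cases hij : i = j
    · subst hij
      rw [proj_of_mem ℳ (h.map_mem x.2), proj_of_mem ℳ' x.2]
    · rw [proj_of_mem_ne ℳ (h.map_mem x.2), proj_of_mem_ne ℳ' x.2 hij, map_zero]
      intro e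
      apply hij
      have hq' : (q : ℤ) ≠ 0 := by positivity
      exact mul_right_cancel₀ hq' e
  | add x y hx hy => rw [map_add, map_add, hx, hy, map_add, map_add]

lemma IsVer.mem_range_iff (h : IsVer φ q ℳ ℳ' g) {y : M} :
    (∃ x, g x = y) ↔ cut ℳ q y = y := by
  constructor
  · rintro ⟨x, rfl⟩
    exact h.cut_apply x
  · intro hy
    rw [← hy]
    clear hy
    induction y using DirectSum.Decomposition.inductionOn ℳ with
    | zero => exact ⟨0, by simp⟩
    | @homogeneous i y =>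
      by_cases hi : (q : ℤ) ∣ i
      · obtain ⟨j, rfl⟩ := hi
        rw [cut_of_mem ℳ q y.2 (Dvd.intro _ rfl)]
        obtain ⟨x, -, hx⟩ := h.exists_eq (j := j) (y := (y : M)) (by rw [mul_comm j]; exact y.2)
        exact ⟨x, hx⟩
      · rw [cut_of_mem_not ℳ q y.2 hi]
        exact ⟨0, by simp⟩
    | add x y hx hy =>
      obtain ⟨x', hx'⟩ := hx
      obtain ⟨y', hy'⟩ := hy
      exact ⟨x' + y', by rw [map_add, map_add, hx', hy']⟩

lemma IsVer.exists_cut (h : IsVer φ q ℳ ℳ' g) (y : M) : ∃ x, g x = cut ℳ q y :=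
  h.mem_range_iff.2 (cut_cut ℳ q y)

/-- The retraction `M → M'` -/
noncomputable def IsVer.retr (h : IsVer φ q ℳ ℳ' g) (y : M) : M' := (h.exists_cut y).choose

lemma IsVer.map_retr (h : IsVer φ q ℳ ℳ' g) (y : M) : g (h.retr y) = cut ℳ q y :=
  (h.exists_cut y).choose_spec

lemma IsVer.retr_map (h : IsVer φ q ℳ ℳ' g) (x : M') : h.retr (g x) = x :=
  h.inj (by rw [h.map_retr, h.cut_apply])

lemma IsVer.retr_add (h : IsVer φ q ℳ ℳ' g) (x y : M) : h.retr (x + y) = h.retr x + h.retr y :=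
  h.inj (by rw [map_add, h.map_retr, h.map_retr, h.map_retr, map_add])

lemma IsVer.retr_mem (h : IsVer φ q ℳ ℳ' g) {j : ℤ} {x : M} (hx : x ∈ ℳ (j * q)) :
    h.retr x ∈ ℳ' j := by
  rw [← h.mem_iff, h.map_retr]
  exact cut_mem ℳ q hx

end IsVer2

section WithData

variable {R : Type u} [CommRing R] {𝒜 : ℤ → AddSubgroup R} [GradedRing 𝒜]
variable {R' : Type u} [CommRing R'] {𝒜' : ℤ → AddSubgroup R'} [GradedRing 𝒜']
variable {φ : R' →+* R} {q : ℕ}

lemma Data.map_mem (D : Data 𝒜 𝒜' φ q) {j : ℤ} {x : R'} (hx : x ∈ 𝒜' j) : φ x ∈ 𝒜 (j * q) := by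
  rw [← D.deg j]; exact AddSubgroup.mem_map_of_mem _ hx

lemma Data.exists_eq (D : Data 𝒜 𝒜' φ q) {j : ℤ} {y : R} (hy : y ∈ 𝒜 (j * q)) :
    ∃ x ∈ 𝒜' j, φ x = y := by
  rw [← D.deg j] at hy; exact hy

/-- `φ` as a semilinear map -/
def semi (φ : R' →+* R) : R' →ₛₗ[φ] R where
  toFun := φ
  map_add' := map_add φ
  map_smul' a b := by rw [smul_eq_mul, map_mul, smul_eq_mul]

@[simp] lemma semi_apply (φ : R' →+* R) (x : R') : semi φ x = φ x := rfl

lemma Data.isVer (D : Data 𝒜 𝒜' φ q) : IsVer φ q 𝒜 𝒜' (semi φ) where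
  inj := D.inj
  deg := D.deg

lemma Data.cut_apply (D : Data 𝒜 𝒜' φ q) (r : R') : cut 𝒜 q (φ r) = φ r := D.isVer.cut_apply r

lemma Data.mem_iff (D : Data 𝒜 𝒜' φ q) {j : ℤ} {x : R'} : φ x ∈ 𝒜 (j * q) ↔ x ∈ 𝒜' j :=
  D.isVer.mem_iff

variable {M : Type u} [AddCommGroup M] [Module R M] {ℳ : ℤ → AddSubgroup M}
  [DirectSum.Decomposition ℳ] [SetLike.GradedSMul 𝒜 ℳ]
variable {M' : Type u} [AddCommGroup M'] [Module R' M'] {ℳ' : ℤ → AddSubgroup M'}
  [DirectSum.Decomposition ℳ'] [SetLike.GradedSMul 𝒜' ℳ']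
variable {g : M' →ₛₗ[φ] M}
variable {N : Type u} [AddCommGroup N] [Module R N] {𝒩 : ℤ → AddSubgroup N}
  [DirectSum.Decomposition 𝒩] [SetLike.GradedSMul 𝒜 𝒩]
variable {N' : Type u} [AddCommGroup N'] [Module R' N'] {𝒩' : ℤ → AddSubgroup N'}
  [DirectSum.Decomposition 𝒩'] [SetLike.GradedSMul 𝒜' 𝒩']
variable {h : N' →ₛₗ[φ] N}

include 𝒜 𝒜' in
lemma Data.retr_smul (D : Data 𝒜 𝒜' φ q) (hg : IsVer φ q ℳ ℳ' g) (r : R') (y : M) :
    hg.retr (φ r • y) = r • hg.retr y := by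
  apply hg.inj
  rw [hg.map_retr, cut_smul 𝒜 ℳ q (D.cut_apply r), map_smulₛₗ, hg.map_retr]

/-- The retraction as a linear map over `R'`. -/
noncomputable def Data.retrL (D : Data 𝒜 𝒜' φ q) (hg : IsVer φ q ℳ ℳ' g) [Module R' M]
    (hM : ∀ (r : R') (y : M), r • y = φ r • y) : M →ₗ[R'] M' where
  toFun := hg.retr
  map_add' := hg.retr_add
  map_smul' r y := by rw [hM, D.retr_smul hg]; rfl

/-- Veronese of homogeneous maps -/
noncomputable def lift (hg : IsVer φ q ℳ ℳ' g) (hh : IsVer φ q 𝒩 𝒩' h) (f : M →ₗ[R] N)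
    (hf : ∀ (n : ℤ) (x : M), x ∈ ℳ n → f x ∈ 𝒩 n) : M' →ₗ[R'] N' where
  toFun x := hh.retr (f (g x))
  map_add' x y := by rw [map_add, map_add, hh.retr_add]
  map_smul' r x := by
    apply hh.inj
    have e1 : h (hh.retr (f (g (r • x)))) = φ r • f (g x) := by
      rw [hh.map_retr, ← map_cut ℳ 𝒩 q f hf, hg.cut_apply, g.map_smulₛₗ, f.map_smul]
    have e2 : h (hh.retr (f (g x))) = f (g x) := by
      rw [hh.map_retr, ← map_cut ℳ 𝒩 q f hf, hg.cut_apply]
    rw [e1, RingHom.id_apply, h.map_smulₛₗ, e2]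

lemma map_lift (hg : IsVer φ q ℳ ℳ' g) (hh : IsVer φ q 𝒩 𝒩' h) (f : M →ₗ[R] N)
    (hf : ∀ (n : ℤ) (x : M), x ∈ ℳ n → f x ∈ 𝒩 n) (x : M') :
    h (lift hg hh f hf x) = f (g x) := by
  change h (hh.retr (f (g x))) = _
  rw [hh.map_retr, ← map_cut ℳ 𝒩 q f hf, hg.cut_apply]

lemma lift_mem (hg : IsVer φ q ℳ ℳ' g) (hh : IsVer φ q 𝒩 𝒩' h) (f : M →ₗ[R] N)
    (hf : ∀ (n : ℤ) (x : M), x ∈ ℳ n → f x ∈ 𝒩 n) (j : ℤ) (x : M') (hx : x ∈ ℳ' j) :
    lift hg hh f hf x ∈ 𝒩' j := by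
  rw [← hh.mem_iff, map_lift]
  exact hf _ _ (hg.map_mem hx)

lemma lift_eq_zero_iff (hg : IsVer φ q ℳ ℳ' g) (hh : IsVer φ q 𝒩 𝒩' h) (f : M →ₗ[R] N)
    (hf : ∀ (n : ℤ) (x : M), x ∈ ℳ n → f x ∈ 𝒩 n) (x : M') :
    lift hg hh f hf x = 0 ↔ f (g x) = 0 := by
  rw [← map_lift hg hh f hf, map_eq_zero_iff h hh.inj]

/-- if `h y` is in the image of `f` then `y` is in the image of the Veronese of `f` -/
lemma exists_lift_eq (hg : IsVer φ q ℳ ℳ' g) (hh : IsVer φ q 𝒩 𝒩' h) (f : M →ₗ[R] N)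
    (hf : ∀ (n : ℤ) (x : M), x ∈ ℳ n → f x ∈ 𝒩 n) (y : N') (x : M) (hx : f x = h y) :
    lift hg hh f hf (hg.retr x) = y := by
  apply hh.inj
  rw [map_lift, hg.map_retr, map_cut ℳ 𝒩 q f hf, hx, hh.cut_apply]

/-- `R'` is Noetherian if `R` is. -/
lemma Data.isNoetherianRing (D : Data 𝒜 𝒜' φ q) [IsNoetherianRing R] : IsNoetherianRing R' := by
  have key : ∀ I : Ideal R', (I.map φ).comap φ = I := by
    intro I
    refine le_antisymm (fun x hx => ?_) Ideal.le_comap_map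
    rw [Ideal.mem_comap] at hx
    have h1 : ∀ y ∈ I.map φ, D.isVer.retr y ∈ I := by
      intro y hy
      rw [Ideal.map] at hy
      induction hy using Submodule.span_induction with
      | mem y hy =>
        obtain ⟨a, ha, rfl⟩ := hy
        have := D.isVer.retr_map a
        rw [semi_apply] at this
        rwa [this]
      | zero =>
        have := D.isVer.retr_map 0
        rw [semi_apply, map_zero] at this
        rw [this]; exact zero_mem _
      | add x y _ _ hx hy => rw [D.isVer.retr_add]; exact add_mem hx hy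
      | smul r y hy' hy =>
        clear hy
        induction hy' using Submodule.span_induction generalizing r with
        | mem y hy =>
          obtain ⟨a, ha, rfl⟩ := hy
          rw [smul_eq_mul, mul_comm, ← smul_eq_mul, D.retr_smul D.isVer, smul_eq_mul]
          exact Ideal.mul_mem_right _ _ ha
        | zero =>
          have := D.isVer.retr_map 0
          rw [semi_apply, map_zero] at this
          rw [smul_zero, this]; exact zero_mem _
        | add x y _ _ hx hy => rw [smul_add, D.isVer.retr_add]; exact add_mem (hx r) (hy r)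
        | smul s y _ hy => rw [smul_smul]; exact hy (r * s)
    have := h1 _ hx
    have h2 := D.isVer.retr_map x
    rw [semi_apply] at h2
    rwa [h2] at this
  have hmono : StrictMono (fun I : Ideal R' => I.map φ) := by
    refine Monotone.strictMono_of_injective (fun I J h => Ideal.map_mono h) (fun I J h => ?_)
    rw [← key I, ← key J]
    exact congrArg (fun K => Ideal.comap φ K) h
  rw [isNoetherianRing_iff, isNoetherian_iff']
  exact hmono.wellFoundedGT

end WithData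

end K763.Ver
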