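import Groth.Agent.GrLC.K763.Ver
import Groth.Agent.Localalg.LCRows
import Groth.Agent.Localalg.LCBasic

/-!
# Veronese submodules: construction, torsion, ungraded local cohomology
-/

set_option autoImplicit false
set_option linter.unusedSectionVars false
set_option linter.unusedVariables false
universe u

open DirectSum K963.Dec K763.Basic GrLC

namespace K763.Ver

section Gam

variable {R : Type u} [CommRing R] {M : Type u} [AddCommGroup M] [Module R M]

lemma gam_le_of_pow_le {a b : Ideal R} {k : ℕ} (h : a ^ k ≤ b) : gam b M ≤ gam a M := by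
  rintro x ⟨n, hn⟩
  refine ⟨k * n, fun r hr => hn r ?_⟩
  rw [pow_mul] at hr
  exact Ideal.pow_right_mono h n hr

lemma gam_eq_of_radical [IsNoetherianRing R] {a b : Ideal R} (h : a.radical = b.radical) :
    gam a M = gam b M := by
  obtain ⟨k, hk⟩ := Ideal.exists_pow_le_of_le_radical_of_fg (I := a) (J := b)
    (h ▸ Ideal.le_radical) (IsNoetherian.noetherian a)
  obtain ⟨l, hl⟩ := Ideal.exists_pow_le_of_le_radical_of_fg (I := b) (J := a)
    (h ▸ Ideal.le_radical) (IsNoetherian.noetherian b)
  exact le_antisymm (gam_le_of_pow_le hl) (gam_le_of_pow_le hk)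

variable {R' : Type u} [CommRing R'] {φ : R' →+* R} {M' : Type u} [AddCommGroup M'] [Module R' M']

lemma mem_gam_map_iff (g : M' →ₛₗ[φ] M) (hg : Function.Injective g) (a' : Ideal R') (x : M') :
    g x ∈ gam (a'.map φ) M ↔ x ∈ gam a' M' := by
  constructor
  · rintro ⟨n, hn⟩
    refine ⟨n, fun r hr => hg ?_⟩
    rw [map_smulₛₗ, map_zero]
    refine hn _ ?_
    rw [← Ideal.map_pow]
    exact Ideal.mem_map_of_mem φ hr
  · rintro ⟨n, hn⟩
    refine ⟨n, fun r hr => ?_⟩
    rw [← Ideal.map_pow, Ideal.map] at hr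
    induction hr using Submodule.span_induction with
    | mem r hr =>
      obtain ⟨s, hs, rfl⟩ := hr
      rw [← map_smulₛₗ, hn s hs, map_zero]
    | zero => rw [zero_smul]
    | add r s _ _ hr hs => rw [add_smul, hr, hs, add_zero]
    | smul r s _ hs => rw [smul_assoc, hs, smul_zero]

lemma mem_gam_iff [IsNoetherianRing R] (g : M' →ₛₗ[φ] M) (hg : Function.Injective g)
    {a : Ideal R} {a' : Ideal R'} (ha : (a'.map φ).radical = a.radical) (x : M') :
    g x ∈ gam a M ↔ x ∈ gam a' M' := by
  rw [← gam_eq_of_radical ha, mem_gam_map_iff g hg]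

end Gam

section Sub

variable {M : Type u} [AddCommGroup M] (ℳ : ℤ → AddSubgroup M) [DirectSum.Decomposition ℳ] (q : ℕ)

/-- elements concentrated in degrees divisible by `q` -/
noncomputable def sub : AddSubgroup M where
  carrier := {x | cut ℳ q x = x}
  add_mem' {x y} hx hy := by
    change cut ℳ q (x + y) = x + y
    rw [map_add, show cut ℳ q x = x from hx, show cut ℳ q y = y from hy]
  zero_mem' := map_zero _
  neg_mem' {x} hx := by
    change cut ℳ q (-x) = -x
    rw [map_neg, show cut ℳ q x = x from hx]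

lemma mem_sub {x : M} : x ∈ sub ℳ q ↔ cut ℳ q x = x := Iff.rfl

end Sub

section Obj

variable {R : Type u} [CommRing R] {𝒜 : ℤ → AddSubgroup R} [GradedRing 𝒜]
variable {R' : Type u} [CommRing R'] {𝒜' : ℤ → AddSubgroup R'} [GradedRing 𝒜']
variable {φ : R' →+* R} {q : ℕ}
variable {M : Type u} [AddCommGroup M] [Module R M] (ℳ : ℤ → AddSubgroup M)
  [DirectSum.Decomposition ℳ] [SetLike.GradedSMul 𝒜 ℳ]

include 𝒜 𝒜' in
/-- the `R'`-module structure on the Veronese subgroup -/
@[instance_reducible]
noncomputable def Data.modSub (D : Data 𝒜 𝒜' φ q) : Module R' (sub ℳ q) where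
  smul r x := ⟨φ r • (x : M), by
    rw [mem_sub, cut_smul 𝒜 ℳ q (D.cut_apply r), x.2]⟩
  one_smul x := Subtype.ext (by change φ 1 • (x : M) = x; rw [map_one, one_smul])
  mul_smul r s x := Subtype.ext (by
    change φ (r * s) • (x : M) = φ r • φ s • (x : M); rw [map_mul, mul_smul])
  smul_zero r := Subtype.ext (smul_zero _)
  smul_add r x y := Subtype.ext (smul_add _ _ _)
  add_smul r s x := Subtype.ext (by
    change φ (r + s) • (x : M) = φ r • (x : M) + φ s • (x : M); rw [map_add, add_smul])
  zero_smul x := Subtype.ext (by change φ 0 • (x : M) = 0; rw [map_zero, zero_smul])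

/-- The Veronese submodule as a graded module over `R'`. -/
noncomputable def Data.obj (D : Data 𝒜 𝒜' φ q) : GMod.{u} 𝒜' :=
  letI := D.modSub ℳ
  { carrier := sub ℳ q
    gr := fun j => (ℳ (j * q)).comap (sub ℳ q).subtype
    dec := by
      refine ofProj _ (fun j x => ⟨proj ℳ (j * q) (x : M), ?_⟩) (fun j x => ?_) (fun j x y => ?_)
        (fun i j x hx hij => ?_) (fun x => ?_)
      · rw [mem_sub, cut_of_mem ℳ q (proj_mem ℳ _ _) (Dvd.intro_left _ rfl)]
      · exact proj_mem ℳ _ _
      · exact Subtype.ext (map_add _ _ _)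
      · refine Subtype.ext (proj_of_mem_ne ℳ hx ?_)
        intro e
        apply hij
        have hq' : (q : ℤ) ≠ 0 := by have := D.pos; positivity
        exact mul_right_cancel₀ hq' e
      · classical
        obtain ⟨s, hs, hxs⟩ := sum_proj ℳ (x : M)
        have hq' : (q : ℤ) ≠ 0 := by have := D.pos; positivity
        have hinj : Function.Injective (fun j : ℤ => j * (q : ℤ)) :=
          fun i j h => mul_right_cancel₀ hq' h
        refine ⟨s.preimage (fun j => j * (q : ℤ)) hinj.injOn, fun j hj => ?_, ?_⟩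
        · exact Subtype.ext (hs _ (fun h => hj (Finset.mem_preimage.2 h)))
        · apply Subtype.ext
          rw [AddSubmonoidClass.coe_finsetSum]
          refine hxs.trans ?_
          symm
          refine Finset.sum_preimage (fun j : ℤ => j * (q : ℤ)) s hinj.injOn
            (fun n => proj ℳ n (x : M)) ?_
          intro n _ hn
          refine (cut_eq_self_iff ℳ q).1 x.2 n ?_
          rintro ⟨j, rfl⟩
          exact hn ⟨j, mul_comm _ _⟩
    gsmul := ⟨fun {i j r x} hr hx => by
      change φ r • (x : M) ∈ ℳ ((i +ᵥ j) * q)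
      have h := smul_mem 𝒜 ℳ (D.map_mem hr) (show (x : M) ∈ ℳ (j * q) from hx)
      rwa [← add_mul] at h⟩ }

/-- The inclusion of the Veronese submodule. -/
noncomputable def Data.incl (D : Data 𝒜 𝒜' φ q) : (D.obj ℳ).carrier →ₛₗ[φ] M where
  toFun := (sub ℳ q).subtype
  map_add' x y := rfl
  map_smul' r x := rfl

lemma Data.isVer_incl (D : Data 𝒜 𝒜' φ q) : IsVer φ q ℳ (D.obj ℳ).gr (D.incl ℳ) where
  inj := Subtype.val_injective
  deg j := by
    ext x
    constructor
    · rintro ⟨y, hy, rfl⟩
      exact hy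
    · intro hx
      exact ⟨⟨x, cut_of_mem ℳ q hx (Dvd.intro_left _ rfl)⟩, hx, rfl⟩

end Obj

section Ungraded

open Groth.Agent.Localalg

variable {R : Type u} [CommRing R] {𝒜 : ℤ → AddSubgroup R} [GradedRing 𝒜]
variable {R' : Type u} [CommRing R'] {𝒜' : ℤ → AddSubgroup R'} [GradedRing 𝒜']
variable {φ : R' →+* R} {q : ℕ}
variable {M : Type u} [AddCommGroup M] [Module R M] {ℳ : ℤ → AddSubgroup M}
  [DirectSum.Decomposition ℳ] [SetLike.GradedSMul 𝒜 ℳ]
variable {M' : Type u} [AddCommGroup M'] [Module R' M'] {ℳ' : ℤ → AddSubgroup M'}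
  [DirectSum.Decomposition ℳ'] [SetLike.GradedSMul 𝒜' ℳ']
variable {g : M' →ₛₗ[φ] M}

/-- The vanishing of local cohomology passes to Veronese submodules. -/
theorem Data.subsingleton_H (D : Data 𝒜 𝒜' φ q) [IsNoetherianRing R] {a : Ideal R} {a' : Ideal R'}
    (ha : (a'.map φ).radical = a.radical) (hg : IsVer φ q ℳ ℳ' g) (p : ℕ)
    (hM : Subsingleton (LocCoh.H a p M)) : Subsingleton (LocCoh.H a' p M') := by
  have hN : IsNoetherianRing R' := D.isNoetherianRing
  algebraize [φ]
  let _ : Module R' M := Module.compHom M φ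
  have hsm : ∀ (r : R') (y : M), r • y = φ r • y := fun _ _ => rfl
  have : IsScalarTower R' R M := IsScalarTower.of_algebraMap_smul fun _ _ => rfl
  have h1 : Subsingleton (LocCoh.H (a'.map (algebraMap R' R)) p M) := by
    let e := (localCohomology.isoOfSameRadical (J := a'.map (algebraMap R' R)) (K := a) ha p).app
      (ModuleCat.of R M)
    exact e.toLinearEquiv.toEquiv.subsingleton
  have h2 : Subsingleton (LocCoh.H a' p M) := (LCRows.subsingleton_iff_res (B := R) a' p M).1 h1
  let i : M' →ₗ[R'] M :=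
    { toFun := g
      map_add' := map_add g
      map_smul' := fun r x => by rw [map_smulₛₗ]; rfl }
  let ρ : M →ₗ[R'] M' := D.retrL hg hsm
  have hρ : ρ ∘ₗ i = LinearMap.id := by
    ext x
    exact hg.retr_map x
  refine subsingleton_of_forall_eq 0 fun x => ?_
  rw [← LCBasic.Hmap_id a' p x, ← hρ, LCBasic.Hmap_comp,
    Subsingleton.elim (LCBasic.Hmap a' p i x) 0, map_zero]

end Ungraded

end K763.Ver
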