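import Groth.Agent.GrLC.K763.PairC
import Groth.Agent.GrLC.K763.VerIrr

/-!
# Transposing a Veronese map through perfect pairings
-/

set_option autoImplicit false
set_option linter.unusedSectionVars false
set_option linter.unusedVariables false
set_option linter.style.haveILetI false
universe u

open DirectSum GrLC K761.Gr K763.PairC K763.Ver

namespace K763.VerDual

variable {R : Type u} [CommRing R] {𝒜 : ℤ → AddSubgroup R} [GradedRing 𝒜]
variable {R' : Type u} [CommRing R'] {𝒜' : ℤ → AddSubgroup R'} [GradedRing 𝒜']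
variable {φ : R' →+* R} {q : ℕ}
variable {H : Type u} [AddCommGroup H] [Module R H] {ℋ : ℤ → AddSubgroup H} [Decomposition ℋ]
  [SetLike.GradedSMul 𝒜 ℋ]
variable {C : Type u} [AddCommGroup C] [Module R C] {𝒞 : ℤ → AddSubgroup C} [Decomposition 𝒞]
  [SetLike.GradedSMul 𝒜 𝒞]
variable {W : Type u} [AddCommGroup W] [Module (deg0 𝒜) W]
variable {H' : Type u} [AddCommGroup H'] [Module R' H'] {ℋ' : ℤ → AddSubgroup H'} [Decomposition ℋ']
  [SetLike.GradedSMul 𝒜' ℋ']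
variable {C' : Type u} [AddCommGroup C'] [Module R' C'] {𝒞' : ℤ → AddSubgroup C'} [Decomposition 𝒞']
  [SetLike.GradedSMul 𝒜' 𝒞']
variable {W' : Type u} [AddCommGroup W'] [Module (deg0 𝒜') W']
variable {B : H →ₗ[deg0 𝒜] C →ₗ[deg0 𝒜] W} {B' : H' →ₗ[deg0 𝒜'] C' →ₗ[deg0 𝒜'] W'}
variable (Ψ : H' →ₛₗ[φ] H) (ε : W' ≃+ W)

variable (q ℋ B B') in
/-- the relation defining the transpose -/
def Rel (c' : C') (c : C) : Prop :=
  (∀ h' : H', B (Ψ h') c = ε (B' h' c')) ∧ ∀ i : ℤ, ¬ (q : ℤ) ∣ i → ∀ h ∈ ℋ i, B h c = 0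

variable {Ψ ε}

lemma Rel.add {c' d' : C'} {c d : C} (h1 : Rel q ℋ B B' Ψ ε c' c) (h2 : Rel q ℋ B B' Ψ ε d' d) :
    Rel q ℋ B B' Ψ ε (c' + d') (c + d) :=
  ⟨fun h' => by rw [map_add, map_add, map_add, h1.1, h2.1],
    fun i hi h hh => by rw [map_add, h1.2 i hi h hh, h2.2 i hi h hh, add_zero]⟩

lemma Rel.sub {c' d' : C'} {c d : C} (h1 : Rel q ℋ B B' Ψ ε c' c) (h2 : Rel q ℋ B B' Ψ ε d' d) :
    Rel q ℋ B B' Ψ ε (c' - d') (c - d) :=
  ⟨fun h' => by rw [map_sub, map_sub, map_sub, h1.1, h2.1],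
    fun i hi h hh => by rw [map_sub, h1.2 i hi h hh, h2.2 i hi h hh, sub_zero]⟩

lemma Rel.zero : Rel q ℋ B B' Ψ ε (0 : C') (0 : C) :=
  ⟨fun h' => by rw [map_zero, map_zero, map_zero], fun i hi h hh => map_zero _⟩

/-- a homogeneous pairing sees only the opposite component -/
lemma IsPP.apply_pr {𝒜 : ℤ → AddSubgroup R} [GradedRing 𝒜] {ℋ : ℤ → AddSubgroup H} [Decomposition ℋ]
    [SetLike.GradedSMul 𝒜 ℋ] {𝒞 : ℤ → AddSubgroup C} [Decomposition 𝒞]
    [SetLike.GradedSMul 𝒜 𝒞] {W : Type u} [AddCommGroup W] [Module (deg0 𝒜) W]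
    {B : H →ₗ[deg0 𝒜] C →ₗ[deg0 𝒜] W} (hB : IsPP 𝒜 ℋ 𝒞 B) {i j : ℤ} (hij : i + j = 0) {h : H}
    (hh : h ∈ ℋ i) (c : C) : B h (pr 𝒞 j c) = B h c := by
  obtain ⟨s, -, hs⟩ := exists_sum_pr 𝒞 c
  conv_rhs => rw [← hs (insert j s) (Finset.subset_insert _ _), map_sum]
  rw [Finset.sum_eq_single j]
  · intro b _ hb
    exact hB.homog i b h _ hh (pr_mem 𝒞 b c) (by omega)
  · intro hj
    exact absurd (Finset.mem_insert_self _ _) hj

/-- nondegeneracy for all elements -/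
lemma IsPP.eq_zero {𝒜 : ℤ → AddSubgroup R} [GradedRing 𝒜] {ℋ : ℤ → AddSubgroup H} [Decomposition ℋ]
    [SetLike.GradedSMul 𝒜 ℋ] {𝒞 : ℤ → AddSubgroup C} [Decomposition 𝒞]
    [SetLike.GradedSMul 𝒜 𝒞] {W : Type u} [AddCommGroup W] [Module (deg0 𝒜) W]
    {B : H →ₗ[deg0 𝒜] C →ₗ[deg0 𝒜] W} (hB : IsPP 𝒜 ℋ 𝒞 B) {c : C}
    (h : ∀ i, ∀ h ∈ ℋ i, B h c = 0) : c = 0 := by
  apply eq_zero_of_pr 𝒞
  intro j
  refine hB.ndr (-j) j (by omega) _ (pr_mem 𝒞 j c) fun x hx => ?_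
  rw [IsPP.apply_pr hB (by omega) hx, h _ x hx]

variable (D : Data 𝒜 𝒜' φ q) (hΨ : Function.Injective Ψ)
  (hΨd : ∀ j : ℤ, (ℋ' j).map (Ψ : H' →+ H) = ℋ (j * q))
  (hε : ∀ (a : deg0 𝒜') (w : W'), ε (a • w) = D.deg0Equiv a • ε w)

include hΨd in
lemma Rel.eq_of_zero (hB : IsPP 𝒜 ℋ 𝒞 B) {c : C} (h : Rel q ℋ B B' Ψ ε 0 c) : c = 0 := by
  refine IsPP.eq_zero hB fun i x hx => ?_
  by_cases hi : (q : ℤ) ∣ i
  · obtain ⟨j, rfl⟩ := hi
    rw [mul_comm, ← hΨd j] at hx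
    obtain ⟨x', hx', rfl⟩ := hx
    change B (Ψ x') c = 0
    rw [h.1, map_zero, map_zero]
  · exact h.2 i hi x hx

include hΨd in
lemma Rel.unique (hB : IsPP 𝒜 ℋ 𝒞 B) {c' : C'} {c d : C} (h1 : Rel q ℋ B B' Ψ ε c' c)
    (h2 : Rel q ℋ B B' Ψ ε c' d) : c = d := by
  have h3 := h1.sub h2
  rw [sub_self] at h3
  exact sub_eq_zero.1 (h3.eq_of_zero hΨd hB)

lemma Rel.eq_zero (hB' : IsPP 𝒜' ℋ' 𝒞' B') {c' : C'} (h : Rel q ℋ B B' Ψ ε c' (0 : C)) : c' = 0 := by
  refine IsPP.eq_zero hB' fun i x hx => ?_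
  have := h.1 x
  rw [map_zero] at this
  exact (map_eq_zero_iff ε ε.injective).1 this.symm

include D in
lemma Rel.smul (hB : IsPP 𝒜 ℋ 𝒞 B) (hB' : IsPP 𝒜' ℋ' 𝒞' B') {c' : C'} {c : C}
    (h1 : Rel q ℋ B B' Ψ ε c' c) (r : R') : Rel q ℋ B B' Ψ ε (r • c') (φ r • c) := by
  refine ⟨fun h' => ?_, fun i hi h hh => ?_⟩
  · rw [← hB.adj, ← map_smulₛₗ, h1.1, hB'.adj]
  · rw [← hB.adj]
    induction r using induction 𝒜' with
    | h0 => rw [map_zero, zero_smul, map_zero]; rfl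
    | hadd a b ha hb => rw [map_add, add_smul, map_add, LinearMap.add_apply, ha, hb, add_zero]
    | hom n r hr =>
      refine h1.2 (n * q + i) ?_ _ (K761.Gr.smul_mem (D.map_mem hr) hh)
      rintro ⟨t, ht⟩
      exact hi ⟨t - n, by rw [mul_sub]; linarith⟩

include D hΨ hΨd hε in
lemma exists_rel_homog (hB : IsPP 𝒜 ℋ 𝒞 B) (hB' : IsPP 𝒜' ℋ' 𝒞' B') {j : ℤ} {c' : C'}
    (hc' : c' ∈ 𝒞' j) : ∃ c ∈ 𝒞 (j * q), Rel q ℋ B B' Ψ ε c' c := by
  have hex : ∀ h : comp 𝒜 ℋ (-j * q), ∃ h' ∈ ℋ' (-j), Ψ h' = h := by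
    rintro ⟨h, hh⟩
    have : h ∈ (ℋ' (-j)).map (Ψ : H' →+ H) := by rw [hΨd]; exact hh
    obtain ⟨h', hh', rfl⟩ := this
    exact ⟨h', hh', rfl⟩
  choose f hf hΨf using hex
  let l : comp 𝒜 ℋ (-j * q) →ₗ[deg0 𝒜] W :=
    { toFun := fun h => ε (B' (f h) c')
      map_add' := fun x y => by
        have : f (x + y) = f x + f y := hΨ (by
          rw [hΨf, map_add, hΨf, hΨf]; rfl)
        rw [this, map_add, LinearMap.add_apply, map_add]
      map_smul' := fun a x => by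
        obtain ⟨a', rfl⟩ := D.deg0Equiv.surjective a
        have : f (D.deg0Equiv a' • x) = a' • f x := hΨ (by
          rw [hΨf, show a' • f x = (a' : R') • f x from rfl, map_smulₛₗ, hΨf]; rfl)
        rw [this, map_smul, LinearMap.smul_apply, hε]; rfl }
  obtain ⟨c, hc, hcl⟩ := hB.perfr (-j * q) (j * q) (by ring) l
  refine ⟨c, hc, fun h' => ?_, fun i hi h hh => ?_⟩
  · induction h' using induction ℋ' with
    | h0 => rw [map_zero, map_zero, LinearMap.zero_apply, map_zero, LinearMap.zero_apply, map_zero]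
    | hadd a b ha hb =>
      rw [map_add, map_add, LinearMap.add_apply, map_add, LinearMap.add_apply, map_add, ha, hb]
    | hom i x hx =>
      have hx2 : Ψ x ∈ ℋ (i * q) := by
        rw [← hΨd]; exact ⟨x, hx, rfl⟩
      by_cases hij : i = -j
      · subst hij
        have h1 := hcl ⟨Ψ x, hx2⟩
        have h2 : f ⟨Ψ x, hx2⟩ = x := hΨ (hΨf _)
        change B (Ψ x) c = ε (B' (f ⟨Ψ x, hx2⟩) c') at h1
        rw [h1, h2]
      · have hq : (0 : ℤ) < (q : ℤ) := by have := D.pos; positivity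
        rw [hB.homog _ _ _ _ hx2 hc (by
          rw [← add_mul]
          exact mul_ne_zero (by omega) hq.ne'),
          hB'.homog _ _ _ _ hx hc' (by omega), map_zero]
  · refine hB.homog _ _ _ _ hh hc fun h0 => hi ⟨-j, ?_⟩
    rw [mul_neg, mul_comm]; omega

include D hΨ hΨd hε in
/-- **Transpose of a Veronese map.** -/
theorem exists_transpose (hB : IsPP 𝒜 ℋ 𝒞 B) (hB' : IsPP 𝒜' ℋ' 𝒞' B') :
    ∃ g : C' →ₛₗ[φ] C, Function.Injective g ∧ ∀ j : ℤ, (𝒞' j).map (g : C' →+ C) = 𝒞 (j * q) := by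
  have hex : ∀ c' : C', ∃ c : C, Rel q ℋ B B' Ψ ε c' c := by
    intro c'
    induction c' using induction 𝒞' with
    | h0 => exact ⟨0, Rel.zero⟩
    | hadd a b ha hb =>
      obtain ⟨c, hc⟩ := ha
      obtain ⟨d, hd⟩ := hb
      exact ⟨c + d, hc.add hd⟩
    | hom i x hx =>
      obtain ⟨c, _, hc⟩ := exists_rel_homog D hΨ hΨd hε hB hB' hx
      exact ⟨c, hc⟩
  choose g hg using hex
  let G : C' →ₛₗ[φ] C :=
    { toFun := g
      map_add' := fun x y => Rel.unique hΨd hB (hg _) ((hg x).add (hg y))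
      map_smul' := fun r x => Rel.unique hΨd hB (hg _) (Rel.smul D hB hB' (hg x) r) }
  have hG : ∀ c', Rel q ℋ B B' Ψ ε c' (G c') := hg
  refine ⟨G, ?_, fun j => ?_⟩
  · rw [injective_iff_map_eq_zero]
    intro x hx
    have := hG x
    rw [hx] at this
    exact this.eq_zero hB'
  · apply le_antisymm
    · rintro _ ⟨x, hx, rfl⟩
      obtain ⟨c, hc, hrel⟩ := exists_rel_homog D hΨ hΨd hε hB hB' hx
      change G x ∈ _
      rw [Rel.unique hΨd hB (hG x) hrel]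
      exact hc
    · intro c hc
      let l : comp 𝒜' ℋ' (-j) →ₗ[deg0 𝒜'] W' :=
        { toFun := fun h => ε.symm (B (Ψ h) c)
          map_add' := fun x y => by
            rw [Submodule.coe_add, map_add, map_add, LinearMap.add_apply, map_add]
          map_smul' := fun a x => by
            rw [RingHom.id_apply, AddEquiv.symm_apply_eq, hε, AddEquiv.apply_symm_apply]
            have : Ψ ((a • x : comp 𝒜' ℋ' (-j)) : H') = D.deg0Equiv a • Ψ x := by
              change Ψ ((a : R') • (x : H')) = _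
              rw [map_smulₛₗ]; rfl
            rw [this, map_smul, LinearMap.smul_apply] }
      obtain ⟨c', hc', hl⟩ := hB'.perfr (-j) j (by omega) l
      refine ⟨c', hc', ?_⟩
      change G c' = c
      refine Rel.unique hΨd hB (hG c') ⟨fun h' => ?_, fun i hi h hh => ?_⟩
      · induction h' using induction ℋ' with
        | h0 => rw [map_zero, map_zero, LinearMap.zero_apply, map_zero, LinearMap.zero_apply, map_zero]
        | hadd a b ha hb =>
          rw [map_add, map_add, LinearMap.add_apply, map_add, LinearMap.add_apply, map_add, ha, hb]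
        | hom i x hx =>
          have hx2 : Ψ x ∈ ℋ (i * q) := by
            rw [← hΨd]; exact ⟨x, hx, rfl⟩
          by_cases hij : i = -j
          · subst hij
            have h1 := hl ⟨x, hx⟩
            change B' x c' = ε.symm (B (Ψ x) c) at h1
            rw [h1, AddEquiv.apply_symm_apply]
          · have hq : (0 : ℤ) < (q : ℤ) := by have := D.pos; positivity
            rw [hB.homog _ _ _ _ hx2 hc (by
              rw [← add_mul]
              exact mul_ne_zero (by omega) hq.ne'),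
              hB'.homog _ _ _ _ hx hc' (by omega), map_zero]
      · refine hB.homog _ _ _ _ hh hc fun h0 => hi ⟨-j, ?_⟩
        rw [mul_neg, mul_comm]; omega

end K763.VerDual
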