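import Groth.Agent.GrLC.K763.VerIrr
import Mathlib.RingTheory.Finiteness.Basic

/-! # Finiteness transfers along semilinear bijections -/

set_option autoImplicit false
set_option linter.unusedSectionVars false
universe u

open DirectSum GrLC

namespace K763.Ver

variable {R : Type u} [CommRing R] {𝒜 : ℤ → AddSubgroup R} [GradedRing 𝒜]
variable {R' : Type u} [CommRing R'] {𝒜' : ℤ → AddSubgroup R'} [GradedRing 𝒜']
variable {φ : R' →+* R} {q : ℕ}

lemma Data.finite (D : Data 𝒜 𝒜' φ q) {H : Type u} [AddCommGroup H] [Module R H]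
    {H' : Type u} [AddCommGroup H'] [Module R' H'] (Ψ : H' →ₛₗ[φ] H) (hΨ : Function.Injective Ψ)
    (P : Submodule (deg0 𝒜) H) (P' : Submodule (deg0 𝒜') H')
    (h : ∀ y, y ∈ P ↔ ∃ x ∈ P', Ψ x = y) [hP : Module.Finite (deg0 𝒜) P] :
    Module.Finite (deg0 𝒜') P' := by
  let f : P' →+ P :=
    { toFun := fun x => ⟨Ψ x, (h _).2 ⟨x, x.2, rfl⟩⟩
      map_zero' := Subtype.ext (map_zero Ψ)
      map_add' := fun x y => Subtype.ext (map_add Ψ _ _) }
  let e : P' ≃+ P :=
    AddEquiv.ofBijective f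
      ⟨fun x y hxy => Subtype.ext (hΨ (congrArg Subtype.val hxy)), fun y => by
        obtain ⟨x, hx, e⟩ := (h _).1 y.2
        exact ⟨⟨x, hx⟩, Subtype.ext e⟩⟩
  have he : ∀ (r : deg0 𝒜') (x : P'), e (r • x) = D.deg0Equiv r • e x := fun r x =>
    Subtype.ext (map_smulₛₗ Ψ (r : R') (x : H'))
  let g : P →ₛₗ[(D.deg0Equiv.symm : deg0 𝒜 →+* deg0 𝒜')] P' :=
    { toFun := e.symm
      map_add' := map_add e.symm
      map_smul' := fun r x => by
        obtain ⟨x, rfl⟩ := e.surjective x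
        obtain ⟨r, rfl⟩ := D.deg0Equiv.surjective r
        rw [← he, AddEquiv.symm_apply_apply, AddEquiv.symm_apply_apply]
        simp }
  have : RingHomSurjective (D.deg0Equiv.symm : deg0 𝒜 →+* deg0 𝒜') :=
    ⟨D.deg0Equiv.symm.surjective⟩
  exact Module.Finite.of_surjective g e.symm.surjective

end K763.Ver
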