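import Groth.Agent.GrLC.K763.Ver2
import Groth.Agent.GrLC.K763.GamHom
import Groth.Agent.GrLC.K763.Glue
import Groth.Agent.GrLC.K963.Iface
import Groth.Agent.GrLC.K763.Cmp
import Groth.Agent.Localalg.LCIface

/-!
# Graded local cohomology commutes with the Veronese functor
-/

set_option autoImplicit false
set_option linter.unusedSectionVars false
set_option linter.unusedVariables false
universe u

open DirectSum K963.Dec K763.Basic GrLC K763.GamHom

namespace K763.Ver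

section NoCoh

open Groth.Agent.Localalg

variable {R : Type u} [CommRing R] [IsNoetherianRing R] {𝒜 : ℤ → AddSubgroup R} [GradedRing 𝒜]
  (a : HomogeneousIdeal 𝒜)

/-- `I / Γ_a(I)` has no local cohomology for `I` *injective. -/
theorem subsingleton_modGam (X : GMod.{u} 𝒜) (hX : IsStarInj 𝒜 X.gr) (p : ℕ) :
    Subsingleton (LocCoh.H a.toIdeal p (modGam a X).carrier) := by
  cases p with
  | zero =>
    have e := LCBasic.H0equiv a.toIdeal (modGam a X).carrier
    have h : ∀ y : LCBasic.powTors a.toIdeal (modGam a X).carrier, y = 0 := by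
      intro y
      have hy : (y : (modGam a X).carrier) ∈ gam a.toIdeal (X.carrier ⧸ gam a.toIdeal X.carrier) :=
        y.2
      rw [gam_quotient_gam] at hy
      exact Subtype.ext hy
    have : Subsingleton (LCBasic.powTors a.toIdeal (modGam a X).carrier) :=
      subsingleton_of_forall_eq 0 h
    exact e.toEquiv.subsingleton
  | succ p =>
    have h1 : Subsingleton (LocCoh.H a.toIdeal (p + 1) X.carrier) :=
      K763.Cmp.acyclic R 𝒜 a X.carrier X.gr hX (p + 1) (Nat.le_add_left 1 p)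
    have h2 : Subsingleton (LocCoh.H a.toIdeal (p + 1 + 1) (gam a.toIdeal X.carrier)) :=
      LCIface.subsingleton_H_of_torsion a.toIdeal _
        (fun x => by
          obtain ⟨n, hn⟩ := x.2
          exact ⟨n, fun r hr => Subtype.ext (hn r hr)⟩) _ (Nat.succ_pos _)
    obtain ⟨δ, -, h3, -⟩ := LCIface.les a.toIdeal (gam a.toIdeal X.carrier) X.carrier
      (X.carrier ⧸ gam a.toIdeal X.carrier) (gam a.toIdeal X.carrier).subtype
      (gam a.toIdeal X.carrier).mkQ (Submodule.injective_subtype _)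
      (Submodule.mkQ_surjective _) (LinearMap.exact_subtype_mkQ _) (p + 1)
    refine subsingleton_of_forall_eq 0 fun x => ?_
    obtain ⟨y, rfl⟩ := (h3 x).1 (Subsingleton.elim _ _)
    rw [Subsingleton.elim y 0]
    exact map_zero _

end NoCoh

section Cpx

variable {R : Type u} [CommRing R] {𝒜 : ℤ → AddSubgroup R} [GradedRing 𝒜]
variable {M : Type u} [AddCommGroup M] [Module R M] {ℳ : ℤ → AddSubgroup M}
  [DirectSum.Decomposition ℳ] [SetLike.GradedSMul 𝒜 ℳ]
variable (E : StarInjRes 𝒜 ℳ) (a : HomogeneousIdeal 𝒜)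

lemma gam_le_comap {X Y : Type u} [AddCommGroup X] [Module R X] [AddCommGroup Y] [Module R Y]
    (I : Ideal R) (f : X →ₗ[R] Y) : gam I X ≤ (gam I Y).comap f := by
  rintro x ⟨n, hn⟩
  exact ⟨n, fun r hr => by rw [← map_smul, hn r hr, map_zero]⟩

/-- The complex `M → X⁰/Γ → X¹/Γ → ⋯`. -/
noncomputable def cpx : ℕ → GMod.{u} 𝒜
  | 0 => GMod.of 𝒜 M ℳ
  | n + 1 => modGam a (E.X n)

/-- Its differential. -/
noncomputable def cpxd : ∀ n, (cpx E a n).carrier →ₗ[R] (cpx E a (n + 1)).carrier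
  | 0 => (gam a.toIdeal (E.X 0).carrier).mkQ ∘ₗ E.ε
  | n + 1 => Submodule.mapQ (gam a.toIdeal (E.X n).carrier) (gam a.toIdeal (E.X (n + 1)).carrier)
      (E.d n) (gam_le_comap _ _)

lemma cpxd_gr : ∀ n, IsGrHom (cpx E a n).gr (cpx E a (n + 1)).gr (cpxd E a n)
  | 0 => fun g x hx => ⟨E.ε x, E.ε_grHom g x hx, rfl⟩
  | n + 1 => fun g x hx => by
    obtain ⟨y, hy, rfl⟩ := hx
    exact ⟨E.d n y, E.d_grHom n g y hy, rfl⟩

lemma d_ε (x : M) : E.d 0 (E.ε x) = 0 := by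
  have : E.ε x ∈ LinearMap.ker (E.d 0) := by rw [E.exact_zero]; exact ⟨x, rfl⟩
  exact this

lemma d_d (n : ℕ) (x : (E.X n).carrier) : E.d (n + 1) (E.d n x) = 0 := by
  have : E.d n x ∈ LinearMap.ker (E.d (n + 1)) := by rw [E.exact_succ]; exact ⟨x, rfl⟩
  exact this

lemma cpxdd : ∀ (n : ℕ) (x : (cpx E a n).carrier), cpxd E a (n + 1) (cpxd E a n x) = 0
  | 0, x => (congrArg (gam a.toIdeal (E.X 1).carrier).mkQ (d_ε E x)).trans (map_zero _)
  | n + 1, x => by
    obtain ⟨y, rfl⟩ := (gam a.toIdeal (E.X n).carrier).mkQ_surjective x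
    change (gam a.toIdeal (E.X (n + 2)).carrier).mkQ (E.d (n + 1) (E.d n y)) = 0
    rw [d_d, map_zero]

lemma cpx_tors0 (x : (cpx E a 0).carrier) (hx : cpxd E a 0 x = 0) :
    x ∈ gam a.toIdeal (cpx E a 0).carrier := by
  have h1 : (gam a.toIdeal (E.X 0).carrier).mkQ (E.ε x) = 0 := hx
  rw [Submodule.mkQ_apply, Submodule.Quotient.mk_eq_zero] at h1
  obtain ⟨n, hn⟩ := h1
  exact ⟨n, fun r hr => E.ε_injective
    (((map_smul E.ε r (show M from x)).trans (hn r hr)).trans (map_zero E.ε).symm)⟩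

lemma cpx_tors : ∀ (n : ℕ) (x : (cpx E a (n + 1)).carrier), cpxd E a (n + 1) x = 0 →
    ∃ m, ∀ r ∈ a.toIdeal ^ m, r • x ∈ LinearMap.range (cpxd E a n)
  | 0, x, hx => by
    obtain ⟨y, rfl⟩ := (gam a.toIdeal (E.X 0).carrier).mkQ_surjective x
    have h1 : (gam a.toIdeal (E.X 1).carrier).mkQ (E.d 0 y) = 0 := hx
    rw [Submodule.mkQ_apply, Submodule.Quotient.mk_eq_zero] at h1
    obtain ⟨m, hm⟩ := h1
    refine ⟨m, fun r hr => ?_⟩
    have h2 : r • y ∈ LinearMap.ker (E.d 0) := by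
      rw [LinearMap.mem_ker, map_smul]; exact hm r hr
    rw [E.exact_zero] at h2
    obtain ⟨z, hz⟩ := h2
    refine ⟨z, ?_⟩
    change (gam a.toIdeal (E.X 0).carrier).mkQ (E.ε z) = r • (gam a.toIdeal (E.X 0).carrier).mkQ y
    rw [hz, map_smul]
  | n + 1, x, hx => by
    obtain ⟨y, rfl⟩ := (gam a.toIdeal (E.X (n + 1)).carrier).mkQ_surjective x
    have h1 : (gam a.toIdeal (E.X (n + 2)).carrier).mkQ (E.d (n + 1) y) = 0 := hx
    rw [Submodule.mkQ_apply, Submodule.Quotient.mk_eq_zero] at h1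
    obtain ⟨m, hm⟩ := h1
    refine ⟨m, fun r hr => ?_⟩
    have h2 : r • y ∈ LinearMap.ker (E.d (n + 1)) := by
      rw [LinearMap.mem_ker, map_smul]; exact hm r hr
    rw [E.exact_succ] at h2
    obtain ⟨z, hz⟩ := h2
    refine ⟨(gam a.toIdeal (E.X n).carrier).mkQ z, ?_⟩
    change (gam a.toIdeal (E.X (n + 1)).carrier).mkQ (E.d n z) =
      r • (gam a.toIdeal (E.X (n + 1)).carrier).mkQ y
    rw [hz, map_smul]

end Cpx

section Main

variable {R : Type u} [CommRing R] {𝒜 : ℤ → AddSubgroup R} [GradedRing 𝒜]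
variable {R' : Type u} [CommRing R'] {𝒜' : ℤ → AddSubgroup R'} [GradedRing 𝒜']
variable {φ : R' →+* R} {q : ℕ}
variable {M : Type u} [AddCommGroup M] [Module R M] {ℳ : ℤ → AddSubgroup M}
  [DirectSum.Decomposition ℳ] [SetLike.GradedSMul 𝒜 ℳ]
variable {M' : Type u} [AddCommGroup M'] [Module R' M'] {ℳ' : ℤ → AddSubgroup M'}
  [DirectSum.Decomposition ℳ'] [SetLike.GradedSMul 𝒜' ℳ']
variable {g : M' →ₛₗ[φ] M}
variable (D : Data 𝒜 𝒜' φ q) (hg : IsVer φ q ℳ ℳ' g)
variable (a : HomogeneousIdeal 𝒜) (a' : HomogeneousIdeal 𝒜')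
variable (E : StarInjRes 𝒜 ℳ)

/-- The Veronese of the complex `cpx`. -/
noncomputable def cpx' : ℕ → GMod.{u} 𝒜'
  | 0 => GMod.of 𝒜' M' ℳ'
  | n + 1 => D.obj (cpx E a (n + 1)).gr

/-- The inclusions. -/
noncomputable def cpxg (g : M' →ₛₗ[φ] M) :
    ∀ n, (cpx' (ℳ' := ℳ') D a E n).carrier →ₛₗ[φ] (cpx E a n).carrier
  | 0 => g
  | n + 1 => D.incl (cpx E a (n + 1)).gr

include hg in
lemma isVer_cpxg : ∀ n, IsVer φ q (cpx E a n).gr (cpx' (ℳ' := ℳ') D a E n).gr
    (cpxg (ℳ' := ℳ') D a E g n)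
  | 0 => hg
  | n + 1 => D.isVer_incl (cpx E a (n + 1)).gr

/-- the differential of the Veronese complex -/
noncomputable def cpxd' (n : ℕ) : (cpx' (ℳ' := ℳ') D a E n).carrier →ₗ[R']
    (cpx' (ℳ' := ℳ') D a E (n + 1)).carrier :=
  lift (isVer_cpxg D hg a E n) (isVer_cpxg D hg a E (n + 1)) (cpxd E a n) (cpxd_gr E a n)

lemma map_cpxd' (n : ℕ) (x : (cpx' (ℳ' := ℳ') D a E n).carrier) :
    cpxg (ℳ' := ℳ') D a E g (n + 1) (cpxd' D hg a E n x) =
      cpxd E a n (cpxg (ℳ' := ℳ') D a E g n x) :=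
  map_lift _ _ _ _ _

variable [IsNoetherianRing R]

include D hg in
/-- **Graded local cohomology commutes with the Veronese functor.** -/
theorem exists_semilinear (ha : (a'.toIdeal.map φ).radical = a.toIdeal.radical)
    (F : StarInjRes 𝒜' ℳ') (p : ℕ) :
    ∃ Ψ : F.H a' p →ₛₗ[φ] E.H a p, Function.Injective Ψ ∧
      ∀ j : ℤ, (F.Hgr a' p j).map (Ψ : F.H a' p →+ E.H a p) = E.Hgr a p (j * q) := by
  have hN : IsNoetherianRing R' := D.isNoetherianRing
  have hV := isVer_cpxg D hg a E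
  -- powers of ideals
  have hpow : ∀ m : ℕ, ∃ m' : ℕ, ∀ r ∈ a'.toIdeal ^ m', φ r ∈ a.toIdeal ^ m := by
    intro m
    obtain ⟨k, hk⟩ := Ideal.exists_pow_le_of_le_radical_of_fg (I := a'.toIdeal.map φ)
      (J := a.toIdeal) (ha ▸ Ideal.le_radical) (IsNoetherian.noetherian _)
    refine ⟨k * m, fun r hr => ?_⟩
    have h1 : φ r ∈ (a'.toIdeal.map φ) ^ (k * m) := by
      rw [← Ideal.map_pow]; exact Ideal.mem_map_of_mem φ hr
    rw [pow_mul] at h1
    exact Ideal.pow_right_mono hk m h1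
  -- comparison over `R`
  obtain ⟨⟨φ0, hφ0⟩, hs⟩ := K963.Iface.comparison a (cpx E a) (cpxd E a) (cpxd_gr E a) (cpxdd E a)
    (cpx_tors0 E a) (cpx_tors E a) (fun n E₁ p => by
      obtain ⟨e⟩ := K763.Cmp.compare R 𝒜 a _ _ E₁ p
      exact @Equiv.subsingleton _ _ e.toEquiv (subsingleton_modGam a (E.X n) (E.starInj n) p)) E
  -- comparison over `R'`
  obtain ⟨⟨φ0', hφ0'⟩, hs'⟩ := K963.Iface.comparison a' (cpx' (ℳ' := ℳ') D a E)
    (cpxd' D hg a E) (fun n j x hx => lift_mem _ _ _ _ j x hx)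
    (fun n x => (hV (n + 2)).inj (by
      rw [map_cpxd', map_cpxd', cpxdd, map_zero]))
    (fun x hx => by
      have h1 : cpxd E a 0 (cpxg (ℳ' := ℳ') D a E g 0 x) = 0 := by
        rw [← map_cpxd' D hg a E, hx, map_zero]
      exact (mem_gam_iff _ (hV 0).inj ha x).1 (cpx_tors0 E a _ h1))
    (fun n x hx => by
      have h1 : cpxd E a (n + 1) (cpxg (ℳ' := ℳ') D a E g (n + 1) x) = 0 := by
        rw [← map_cpxd' D hg a E, hx, map_zero]
      obtain ⟨m, hm⟩ := cpx_tors E a n _ h1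
      obtain ⟨m', hm'⟩ := hpow m
      refine ⟨m', fun r hr => ?_⟩
      obtain ⟨y, hy⟩ := hm _ (hm' r hr)
      rw [← map_smulₛₗ] at hy
      exact ⟨_, exists_lift_eq (hV n) (hV (n + 1)) (cpxd E a n) (cpxd_gr E a n) _ y hy⟩)
    (fun n E₁ p => by
      obtain ⟨e⟩ := K763.Cmp.compare R' 𝒜' a' _ _ E₁ p
      have h1 := subsingleton_modGam a (E.X n) (E.starInj n) p
      exact @Equiv.subsingleton _ _ e.toEquiv
        (D.subsingleton_H ha (D.isVer_incl (modGam a (E.X n)).gr) p h1)) F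
  -- restriction of the inclusions to the cocycles
  let gk : ∀ n, LinearMap.ker (cpxd' D hg a E n) →ₛₗ[φ] LinearMap.ker (cpxd E a n) := fun n =>
    { toFun := fun z => ⟨cpxg (ℳ' := ℳ') D a E g n z, by
        rw [LinearMap.mem_ker, ← map_cpxd' D hg a E, z.2, map_zero]⟩
      map_add' := fun x y => Subtype.ext (map_add _ _ _)
      map_smul' := fun r x => Subtype.ext (map_smulₛₗ _ _ _) }
  -- a cocycle of degree `j * q` comes from a cocycle of degree `j`
  have hgk : ∀ (n : ℕ) (j : ℤ) (x : LinearMap.ker (cpxd E a n)),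
      (x : (cpx E a n).carrier) ∈ (cpx E a n).gr (j * q) →
      ∃ x' : LinearMap.ker (cpxd' D hg a E n),
        (x' : (cpx' (ℳ' := ℳ') D a E n).carrier) ∈ (cpx' (ℳ' := ℳ') D a E n).gr j ∧
          gk n x' = x := by
    intro n j x hx
    obtain ⟨y, hy, hyx⟩ := (hV n).exists_eq hx
    refine ⟨⟨y, ?_⟩, hy, Subtype.ext hyx⟩
    rw [LinearMap.mem_ker]
    apply (hV (n + 1)).inj
    rw [map_cpxd', hyx, map_zero]
    exact x.2
  cases p with
  | zero =>
    obtain ⟨Ψ, hΨ, hΨ2⟩ := K763.Glue.exists_glue φ0'.toLinearMap φ0'.surjective φ0.toLinearMap (gk 0)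
      (fun z => by
        rw [LinearEquiv.coe_coe, LinearEquiv.coe_coe, LinearEquiv.map_eq_zero_iff,
          LinearEquiv.map_eq_zero_iff]
        constructor
        · rintro rfl; exact map_zero _
        · intro h
          exact Subtype.ext ((hV 0).inj ((congrArg Subtype.val h).trans (map_zero _).symm)))
    refine ⟨Ψ, hΨ, fun j => ?_⟩
    ext y
    constructor
    · rintro ⟨x, hx, rfl⟩
      obtain ⟨z, rfl⟩ := φ0'.surjective x
      have h1 : Ψ (φ0' z) = φ0 (gk 0 z) := hΨ2 z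
      change Ψ (φ0' z) ∈ E.Hcomp a 0 (j * q)
      rw [h1]
      exact (hφ0 _ _).2 ((hV 0).map_mem ((hφ0' z j).1 hx))
    · intro hy
      obtain ⟨x, rfl⟩ := φ0.surjective y
      obtain ⟨x', hx', rfl⟩ := hgk 0 j x ((hφ0 x _).1 hy)
      exact ⟨φ0' x', (hφ0' x' j).2 hx', hΨ2 x'⟩
  | succ p =>
    obtain ⟨s, hs1, hs2, hs3, hs4⟩ := hs p
    obtain ⟨s', hs1', hs2', hs3', hs4'⟩ := hs' p
    obtain ⟨Ψ, hΨ, hΨ2⟩ := K763.Glue.exists_glue s' hs1' s (gk (p + 1)) (fun z => by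
      rw [← LinearMap.mem_ker, hs2', ← LinearMap.mem_ker, hs2, Submodule.mem_comap,
        Submodule.mem_comap]
      constructor
      · rintro ⟨y, hy⟩
        refine ⟨cpxg (ℳ' := ℳ') D a E g p y, ?_⟩
        rw [← map_cpxd' D hg a E, hy]
        rfl
      · rintro ⟨y, hy⟩
        exact ⟨_, exists_lift_eq (hV p) (hV (p + 1)) (cpxd E a p) (cpxd_gr E a p) _ y hy⟩)
    refine ⟨Ψ, hΨ, fun j => ?_⟩
    ext y
    constructor
    · rintro ⟨x, hx, rfl⟩
      obtain ⟨z, hz, rfl⟩ := hs4' j x hx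
      have h1 : Ψ (s' z) = s (gk (p + 1) z) := hΨ2 z
      change Ψ (s' z) ∈ E.Hcomp a (p + 1) (j * q)
      rw [h1]
      exact hs3 _ _ ((hV (p + 1)).map_mem hz)
    · intro hy
      obtain ⟨x, hx, rfl⟩ := hs4 _ y hy
      obtain ⟨x', hx', rfl⟩ := hgk (p + 1) j x hx
      exact ⟨s' x', hs3' x' j hx', hΨ2 x'⟩

end Main

end K763.Ver
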